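import Cfsg.Agent.Lib.CoT.Sza

/-! Generated data and checks. -/

set_option autoImplicit false
set_option maxRecDepth 100000

namespace CA.CoT.S
open CA.Fi CA.CoT

theorem M_lb : lbW 6 12 eM = true := by decide +kernel
theorem M_rep : repOK 6 12 (eqK eM [HX]) T HX = true := by decide +kernel
theorem M_k : allL (fun p => eM (pwW p.1 p.2) []) [([20], 5), ([22], 3), ([24], 3), ([26], 3), ([20, 22], 2)] = true ∧ dM [16] [] = true := by decide +kernel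
theorem M_d : allN (fun k => eM [2 * (18 + k)] (nth [] ds k)) ds.length = true ∧ allN (fun k => allL (fun c => Nat.blt c (2 * (18 + k))) (nth [] ds k)) ds.length = true := by decide +kernel
noncomputable def lB : List Bk.Lv := [⟨4, 40, 7, 128, [[4], [11], [1, 0, 0, 0, 1], [1, 0, 1, 5, 1, 0, 0]]⟩, ⟨8, 24, 7, 128, [[0], [1], [2, 2, 1, 2]]⟩, ⟨2, 8, 7, 128, [[0], [1, 0, 1], [2, 0, 2]]⟩, ⟨1, 2, 7, 128, [[0, 1], [0, 2]]⟩, ⟨16, 2, 7, 128, [[0]]⟩, ⟨32, 2, 7, 128, []⟩]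
noncomputable def lH : List Bk.Lv := [⟨3, 72, 7, 128, [[2], [14, 13, 1]]⟩, ⟨5, 40, 7, 128, [[0, 0, 0, 0, 1], [0, 0, 0, 1, 1, 0]]⟩, ⟨8, 18, 7, 128, [[0, 0, 0], [1, 0, 0, 1, 0, 0], [0, 1, 0, 1, 0, 0, 0, 1], [0, 0, 1, 0, 1, 0, 1, 0, 0]]⟩, ⟨1, 8, 7, 128, [[1], [2, 0, 3]]⟩, ⟨16, 2, 7, 128, [[1]]⟩, ⟨32, 2, 7, 128, []⟩]
theorem M_lB : (cdB 6).chainW T (ltW (BI 6)) lB = true ∧ (lB.map Bk.Lv.a).prod = 2 ^ (2 * 6 - 2) * 60 := by decide +kernel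
theorem M_lH : (cdB 6).chainW T (ltW (HI 6)) lH = true ∧ (lH.map Bk.Lv.a).prod = 2 ^ 6 * 25920 := by decide +kernel
theorem M_fQ : ChkF 6 12 (T 24) 0 := by decide +kernel
theorem M_fK : ChkF 6 12 (T 20) 2 := by decide +kernel
theorem M_E : ChkE 6 12 (T 20) := by decide +kernel
theorem M_c1 : Chk1 6 12 (T 20) := by decide +kernel
theorem M_c2 : Chk2 6 T [pwW [20] 5, pwW [22] 3, pwW [20, 22] 2] := by decide +kernel
noncomputable def tkn_0 : List (ℕ × ℕ) := [(nat_lit 1, nat_lit 0x440400005100141), (nat_lit 2, nat_lit 0x30322311203122), (nat_lit 4, nat_lit 0x10202080c010b0c), (nat_lit 8, nat_lit 0xb5002f007a00d0), (nat_lit 16, nat_lit 0xaf4000007800), (nat_lit 32, nat_lit 0xb400000), (nat_lit 16, nat_lit 0xa0000000000), (nat_lit 8, nat_lit 0xa5004a00400000), (nat_lit 4, nat_lit 0x10c020b09080900), (nat_lit 2, nat_lit 0x130121222132100),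 (nat_lit 1, nat_lit 0x141054104011014)]
noncomputable def tkn_1 : List (ℕ × ℕ) := [(nat_lit 1, nat_lit 0x51015000050110), (nat_lit 2, nat_lit 0x200001320333203), (nat_lit 4, nat_lit 0x203000401010306), (nat_lit 8, nat_lit 0x35002900ef00b8), (nat_lit 16, nat_lit 0x3fd80000d600), (nat_lit 32, nat_lit 0x2bd00000), (nat_lit 16, nat_lit 0x2bd000000000), (nat_lit 8, nat_lit 0x1800ca00900000), (nat_lit 4, nat_lit 0x204020002010000), (nat_lit 2, nat_lit 0x331000032213200), (nat_lit 1, nat_lit 0x441400401414000)]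
noncomputable def tkn : List (List (ℕ × ℕ)) := [tkn_0, tkn_1]
noncomputable def tks : List (List ℕ) := []
noncomputable def tkst : List (ℕ × ℕ × ℕ) := [(0, 0, bit 0), (0, 0, bit 1), (0, 0, bit 3), (0, 0, bit 7), (1, 0, 0), (0, 2, bit 0), (0, 0, bit 2), (1, 1, 1), (0, 0, bit 5), (0, 0, bit 10), (0, 0, bit 16), (1, 0, 0), (0, 2, bit 1), (0, 0, bit 4), (1, 1, 1), (1, 2, 0), (0, 0, bit 6), (1, 1, 1), (0, 0, bit 12), (0, 0, bit 19), (1, 0, 0), (0, 2, bit 3), (0, 0, bit 8), (1, 1, 1), (1, 2, 0), (0, 0, bit 9), (1, 1, 1), (0, 0, bit 15), (0, 0, bit 23), (1, 0, 0), (0, 2, bit 7), (0, 0, bit 13), (1, 1, 1), (1, 2, 0), (0, 0, bit 14), (1, 1, 1), (0, 0, bit 22), (0, 0, bit 30), (1, 0, 0), (0, 2, bit 10), (0, 0, bit 17), (1, 1, 1), (1, 2, 0), (0, 0, bit 18), (1, 1, 1), (1, 2, 0), (0, 0, bit 21), (1, 1, 1), (0, 0, bit 29), (1, 0, 0), (0, 2, bit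 16), (0, 0, bit 25), (1, 1, 1), (1, 2, 0), (0, 0, bit 26), (1, 1, 1), (0, 0, bit 35), (0, 0, bit 43), (1, 0, 0), (0, 2, bit 19), (0, 0, bit 27), (1, 1, 1), (1, 2, 0), (0, 0, bit 28), (1, 1, 1), (1, 2, 0), (0, 0, bit 34), (1, 1, 1), (0, 0, bit 42), (1, 0, 0), (0, 2, bit 23), (0, 0, bit 32), (1, 1, 1), (1, 2, 0), (0, 0, bit 33), (1, 1, 1), (1, 2, 0), (0, 0, bit 36), (1, 1, 1), (0, 0, bit 44), (1, 0, 0), (0, 2, bit 30), (0, 0, bit 39), (1, 1, 1), (1, 2, 0), (0, 0, bit 40), (1, 1, 1), (1, 2, 0), (0, 0, bit 41), (1, 1, 1), (0, 0, bit 48), (1, 0, 0), (0, 2, bit 37), (1, 2, 0), (0, 0, bit 45), (1, 1, 1), (1, 2, 0), (0, 0, bit 46), (1, 1, 1), (1, 2, 0), (0, 0, bit 47), (1, 1, 1), (0, 0, bit 53), (1, 0, 0), (1, 1, 1), (0, 2, bit 49), (1, 2, 0), (0, 0, bit 55), (1, 1, 1), (1, 2, 0), (0, 0, bit 56), (1, 1, 1), (1, 2, 0), (0, 0, bit 57), (1, 1,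 1), (1, 2, 0), (0, 0, bit 59), (1, 0, 0), (1, 1, 1)]
noncomputable def tkr : List (List ℕ) := [[0, 0, 0, 0, 0], [0, 2, 0, 2], [2, 2, 2]]
noncomputable def tkv : List (List ℕ × List ℕ) := [([20, 20, 20, 20, 20], []), ([20, 22, 20, 22], []), ([22, 22, 22], [])]
theorem tkc1 : tcOK 6 64 [10, 11].length tkn tkr tks = true := by decide +kernel
theorem tkc2 : (mkTc 6 64 [10, 11].length tkn 0 tkr tks []).run 60 tkst (bit 0) 0 = true := by decide +kernel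
theorem tkc3 : tqOK (eqK eM [HX]) [10, 11] [] [] tkr tks tkv = true := by decide +kernel
noncomputable def thn_0 : List (ℕ × ℕ) := [(nat_lit 1, nat_lit 0x5545041), (nat_lit 2, nat_lit 0x2333212), (nat_lit 4, nat_lit 0x30e0504), (nat_lit 8, nat_lit 0x8f00f0), (nat_lit 16, nat_lit 0xbf00), (nat_lit 8, nat_lit 0xa70000), (nat_lit 4, nat_lit 0x3090400), (nat_lit 2, nat_lit 0x2100100), (nat_lit 1, nat_lit 0x5410000)]
noncomputable def thn_1 : List (ℕ × ℕ) := [(nat_lit 1, nat_lit 0x111110), (nat_lit 2, nat_lit 0x3233303), (nat_lit 4, nat_lit 0xc0e0506), (nat_lit 8, nat_lit 0x6400b8), (nat_lit 16, nat_lit 0xe500), (nat_lit 8, nat_lit 0x250000), (nat_lit 4, nat_lit 0xc030300), (nat_lit 2, nat_lit 0x3022100), (nat_lit 1, nat_lit 0x1500)]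
noncomputable def thn_2 : List (ℕ × ℕ) := [(nat_lit 1, nat_lit 0x5105444), (nat_lit 2, nat_lit 0x3003300), (nat_lit 4, nat_lit 0x40e0106), (nat_lit 8, nat_lit 0x900018), (nat_lit 16, nat_lit 0xd260), (nat_lit 8, nat_lit 0x920000), (nat_lit 4, nat_lit 0x4060200), (nat_lit 2, nat_lit 0x1100320), (nat_lit 1, nat_lit 0x5415040)]
noncomputable def thn_3 : List (ℕ × ℕ) := [(nat_lit 1, nat_lit 0x1155000), (nat_lit 2, nat_lit 0x1303200), (nat_lit 4, nat_lit 0xa0a00), (nat_lit 8, nat_lit 0xd20080), (nat_lit 16, nat_lit 0xd220), (nat_lit 8, nat_lit 0xd20000), (nat_lit 4, nat_lit 0xa0800), (nat_lit 2, nat_lit 0x202200), (nat_lit 1, nat_lit 0x44000)]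
noncomputable def thn_11 : List (ℕ × ℕ) := [(nat_lit 1, nat_lit 0x5504100), (nat_lit 2, nat_lit 0x2130300), (nat_lit 4, nat_lit 0x20b0200), (nat_lit 8, nat_lit 0x6b0010), (nat_lit 16, nat_lit 0x4b80), (nat_lit 8, nat_lit 0x4b0000), (nat_lit 4, nat_lit 0x20b0800), (nat_lit 2, nat_lit 0x2322100), (nat_lit 1, nat_lit 0x4504100)]
noncomputable def thn_12 : List (ℕ × ℕ) := [(nat_lit 1, nat_lit 0x1501400), (nat_lit 2, nat_lit 0x3212000), (nat_lit 4, nat_lit 0x30200), (nat_lit 8, nat_lit 0xcb0030), (nat_lit 16, nat_lit 0xc300), (nat_lit 8, nat_lit 0xc30000), (nat_lit 4, nat_lit 0x30200), (nat_lit 2, nat_lit 0x2000000), (nat_lit 1, nat_lit 0x1501000)]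
noncomputable def thn_13 : List (ℕ × ℕ) := [(nat_lit 1, nat_lit 0x4101510), (nat_lit 2, nat_lit 0x3333220), (nat_lit 4, nat_lit 0x4090704), (nat_lit 8, nat_lit 0x6300b0), (nat_lit 16, nat_lit 0x2b80), (nat_lit 8, nat_lit 0x290000), (nat_lit 4, nat_lit 0x4030900), (nat_lit 2, nat_lit 0x1101000), (nat_lit 1, nat_lit 0x4101510)]
noncomputable def thn_14 : List (ℕ × ℕ) := [(nat_lit 1, nat_lit 0x4004400), (nat_lit 2, nat_lit 0x3032022), (nat_lit 4, nat_lit 0x90300), (nat_lit 8, nat_lit 0x6300b0), (nat_lit 16, nat_lit 0x6f80), (nat_lit 8, nat_lit 0x690000), (nat_lit 4, nat_lit 0x30900), (nat_lit 2, nat_lit 0x1200200), (nat_lit 1, nat_lit 0x4004400)]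
noncomputable def thn : List (List (ℕ × ℕ)) := [thn_0, thn_1, thn_2, thn_3, [], [], [], [], [], [], [], thn_11, thn_12, thn_13, thn_14]
noncomputable def ths : List (List ℕ) := [[4], [6], [8], [10], [12], [14], [16], [18], [20], [22], [24], [26], [28]]
noncomputable def thst : List (ℕ × ℕ × ℕ) := [(2, 0, 0), (2, 1, 0), (2, 2, 0), (2, 3, 0), (2, 4, 0), (2, 5, 0), (2, 6, 0), (2, 7, 0), (2, 8, 0), (2, 9, 0), (2, 10, 0), (2, 11, 0), (2, 12, 0), (0, 2, bit 0), (1, 0, 0), (1, 1, 0), (1, 2, 0), (1, 3, 0), (1, 4, 0), (1, 5, 0), (1, 6, 0), (1, 7, 3), (1, 8, 3), (0, 4, bit 2), (1, 0, 0), (1, 1, 0), (1, 2, 0), (1, 3, 0), (1, 4, 0), (1, 5, 0), (1, 6, 0), (0, 6, bit 7), (1, 0, 0), (1, 1, 0), (1, 2, 0), (1, 3, 0), (1, 4, 0), (1, 5, 0), (1, 6, 0), (1, 9, 0), (0, 6, bit 9), (1, 0, 0), (1, 1, 0), (1, 2, 0), (1, 3, 0), (1, 4, 0), (1, 5, 0), (1, 6, 0),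 (1, 10, 0), (1, 11, 4), (0, 4, bit 18), (1, 0, 0), (1, 1, 0), (1, 2, 0), (1, 3, 0), (1, 4, 0), (1, 5, 0), (1, 6, 0), (1, 12, 0), (1, 9, 1), (1, 13, 2), (0, 24, bit 9), (1, 0, 0), (1, 1, 0), (1, 2, 0), (1, 3, 0), (1, 4, 0), (1, 5, 0), (1, 6, 0), (1, 14, 0), (0, 6, bit 5), (1, 0, 0), (1, 1, 0), (1, 2, 0), (1, 3, 0), (1, 4, 0), (1, 5, 0), (1, 6, 0), (1, 15, 3), (0, 6, bit 16), (1, 0, 0), (1, 1, 0), (1, 2, 0), (1, 3, 0), (1, 4, 0), (1, 5, 0), (1, 6, 0), (1, 10, 0), (0, 4, bit 5), (1, 0, 0), (1, 1, 0), (1, 2, 0), (1, 3, 0), (1, 4, 0), (1, 5, 0), (1, 6, 0), (1, 16, 3), (1, 17, 0), (1, 16, 4), (1, 18, 0), (1, 9, 0), (1, 19, 0), (1, 11, 1), (1, 15, 3), (1, 20, 0), (1, 21, 0), (1, 15, 1), (1, 11, 4), (1, 13, 5), (1, 22, 1), (1, 22, 3), (1, 13, 2), (1, 16, 1), (1, 16, 3), (1, 18, 1), (1, 15, 3), (1, 16, 1), (1, 15, 3), (1, 23, 1), (1, 23, 4),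 (1, 14, 0), (1, 24, 0), (0, 4, bit 16), (1, 0, 0), (1, 1, 0), (1, 2, 0), (1, 3, 0), (1, 4, 0), (1, 5, 0), (1, 6, 0), (1, 12, 0), (1, 13, 2), (1, 13, 5), (1, 16, 1), (1, 22, 0), (1, 23, 4), (1, 24, 0), (0, 2, bit 1), (1, 0, 0), (1, 1, 0), (1, 2, 0), (1, 3, 0), (1, 4, 0), (1, 5, 0), (1, 6, 0), (1, 7, 3), (1, 25, 0), (0, 4, bit 4), (1, 0, 0), (1, 1, 0), (1, 2, 0), (1, 3, 0), (1, 4, 0), (1, 5, 0), (1, 6, 0), (1, 26, 0), (1, 27, 4), (0, 6, bit 11), (1, 0, 0), (1, 1, 0), (1, 2, 0), (1, 3, 0), (1, 4, 0), (1, 5, 0), (1, 6, 0), (1, 7, 0), (1, 9, 0), (1, 24, 0), (0, 6, bit 23), (1, 0, 0), (1, 1, 0), (1, 2, 0), (1, 3, 0), (1, 4, 0), (1, 5, 0), (1, 6, 0), (1, 7, 0), (1, 7, 1), (1, 11, 1), (1, 11, 4), (1, 15, 3), (1, 28, 0), (0, 4, bit 14), (1, 0, 0), (1, 1, 0), (1, 2, 0), (1, 3, 0), (1, 4, 0), (1, 5, 0), (1, 6, 0), (1, 12, 0), (1, 24, 5), (1,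 25, 2), (1, 28, 1), (0, 24, bit 4), (1, 0, 0), (1, 1, 0), (1, 2, 0), (1, 3, 0), (1, 4, 0), (1, 5, 0), (1, 6, 0), (1, 14, 0), (1, 23, 2), (1, 27, 0), (1, 27, 7), (1, 17, 0), (0, 6, bit 13), (1, 0, 0), (1, 1, 0), (1, 2, 0), (1, 3, 0), (1, 4, 0), (1, 5, 0), (1, 6, 0), (1, 7, 0), (1, 15, 3), (1, 18, 3), (1, 28, 0), (0, 6, bit 12), (1, 0, 0), (1, 1, 0), (1, 2, 0), (1, 3, 0), (1, 4, 0), (1, 5, 0), (1, 6, 0), (1, 7, 0), (1, 7, 3), (1, 18, 1), (1, 21, 0), (1, 23, 3), (1, 28, 0), (1, 15, 1), (0, 4, bit 12), (1, 0, 0), (1, 1, 0), (1, 2, 0), (1, 3, 0), (1, 4, 0), (1, 5, 0), (1, 6, 0), (1, 13, 5), (1, 23, 4), (1, 24, 0), (1, 24, 5), (1, 20, 0), (1, 25, 0), (0, 6, bit 26), (1, 0, 0), (1, 1, 0), (1, 2, 0), (1, 3, 0), (1, 4, 0), (1, 5, 0), (1, 6, 0), (1, 7, 0), (1, 8, 1), (1, 9, 0), (1, 11, 1), (1, 25, 0), (1, 25, 2), (0, 6, bit 25), (1, 0, 0), (1,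 1, 0), (1, 2, 0), (1, 3, 0), (1, 4, 0), (1, 5, 0), (1, 6, 0), (1, 7, 0), (1, 7, 1), (1, 8, 1), (1, 11, 1), (1, 11, 4), (1, 15, 3), (1, 24, 0), (1, 25, 0), (0, 4, bit 13), (1, 0, 0), (1, 1, 0), (1, 2, 0), (1, 3, 0), (1, 4, 0), (1, 5, 0), (1, 6, 0), (1, 16, 3), (1, 16, 4), (1, 17, 0), (1, 19, 0), (1, 19, 2), (1, 25, 0), (1, 25, 2), (1, 8, 1), (0, 6, bit 21), (1, 0, 0), (1, 1, 0), (1, 2, 0), (1, 3, 0), (1, 4, 0), (1, 5, 0), (1, 6, 0), (1, 7, 0), (1, 8, 1), (1, 9, 0), (1, 11, 3), (1, 13, 2), (1, 24, 0), (1, 25, 0), (0, 6, bit 20), (1, 0, 0), (1, 1, 0), (1, 2, 0), (1, 3, 0), (1, 4, 0), (1, 5, 0), (1, 6, 0), (1, 7, 0), (1, 7, 1), (1, 8, 1), (1, 9, 0), (1, 11, 1), (1, 13, 2), (1, 15, 3), (1, 24, 0), (1, 25, 0), (0, 4, bit 21), (1, 0, 0), (1, 1, 0), (1, 2, 0), (1, 3, 0), (1, 4, 0), (1, 5, 0), (1, 6, 0), (1, 11, 4), (1, 11, 5), (1, 13, 2),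 (1, 13, 5), (1, 16, 1), (1, 19, 0), (1, 20, 0), (1, 21, 0), (1, 24, 0), (0, 24, bit 21), (1, 0, 0), (1, 1, 0), (1, 2, 0), (1, 3, 0), (1, 4, 0), (1, 5, 0), (1, 6, 0), (1, 11, 0), (1, 11, 1), (1, 20, 0), (1, 23, 2), (1, 24, 4), (1, 25, 0), (1, 26, 6), (1, 27, 2), (1, 8, 1), (1, 15, 3)]
noncomputable def thr : List (List ℕ) := [[8], [10], [12], [14], [16], [18], [20], [2, 6, 3, 7], [2, 28, 3, 28], [4, 6, 4, 6], [6, 6, 6], [2, 24, 3, 5, 5, 7, 4], [4, 4, 4, 4, 4], [4, 4, 26, 5, 5, 28], [24, 24], [6, 24, 7, 22], [4, 24, 5, 26, 28], [26, 26], [6, 26, 7, 26], [2, 26, 2, 26, 6], [2, 2, 2], [22, 26, 22, 26], [6, 28, 7, 28], [4, 24, 26, 5, 22], [0, 4, 7, 24, 4, 2, 4, 4], [0, 2, 1, 3], [0, 5, 0, 24, 3, 24, 7, 1, 5], [0, 4, 26, 1, 3, 5, 24, 3, 24], [0, 6, 1, 7]]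
noncomputable def thv : List (List ℕ × List ℕ) := [([24, 16, 25], [16]), ([24, 0, 25], [8, 0, 16]), ([24, 2, 25], [10]), ([24, 4, 25], [7, 4]), ([24, 6, 25], [5]), ([24, 8, 25], [0]), ([24, 10, 25], [10, 2]), ([26, 16, 27], [16]), ([26, 0, 27], [10, 16]), ([26, 2, 27], [8, 2]), ([26, 4, 27], [7, 4]), ([26, 6, 27], [5]), ([26, 8, 27], [2, 16]), ([26, 10, 27], [10, 0]), ([20, 16, 21], [16]), ([20, 0, 21], [0]), ([20, 2, 21], [2]), ([20, 4, 21], [10, 7, 4]), ([20, 6, 21], [10, 8]), ([20, 8, 21], [10, 8, 4]), ([20, 10, 21], [8, 10, 6]), ([22, 16, 23], [16]), ([22, 0, 23], [0]), ([22, 2, 23], [2]), ([22, 4, 23], [7, 4]), ([22, 6, 23], [5]), ([22, 8, 23], [8]), ([22, 10, 23], [10]), ([28, 16, 29], [16]), ([28, 0, 29], [0]), ([28, 2, 29], [5, 2, 0]), ([28, 4, 29], [4]), ([28, 6, 29], [7, 0]), ([28, 8, 29], [8]), ([28, 10, 29], [10]), ([30,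 16, 31], [16]), ([30, 0, 31], [0]), ([30, 2, 31], [7, 2, 0]), ([30, 4, 31], [5, 0]), ([30, 6, 31], [6]), ([30, 8, 31], [8]), ([30, 10, 31], [10]), ([32, 16, 33], [16]), ([32, 0, 33], [0]), ([32, 2, 33], [8, 2]), ([32, 4, 33], [4]), ([32, 6, 33], [6]), ([32, 8, 33], [8]), ([32, 10, 33], [10, 0, 16]), ([34, 16, 35], [16]), ([34, 0, 35], [0]), ([34, 2, 35], [10, 2]), ([34, 4, 35], [4]), ([34, 6, 35], [6]), ([34, 8, 35], [8, 0, 16]), ([34, 10, 35], [10]), ([26, 22, 27, 23], []), ([26, 34, 27, 34], []), ([20, 22, 20, 22], []), ([22, 22, 22], []), ([26, 30, 27, 21, 21, 23, 20], [10, 7]), ([20, 20, 20, 20, 20], []), ([20, 20, 32, 21, 21, 34], []), ([30, 30], [0]), ([22, 30, 23, 28], []), ([20, 30, 21, 32, 34], []), ([32, 32], []), ([22, 32, 23, 32], []), ([26, 32, 26, 32, 22], [8, 2, 16]), ([26, 26, 26], []), ([28, 32, 28, 32], [0]), ([22,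 34, 23, 34], []), ([20, 30, 32, 21, 28], []), ([24, 20, 23, 30, 20, 26, 20, 20], [8, 10, 6, 2, 0]), ([24, 26, 25, 27], []), ([24, 21, 24, 30, 27, 30, 23, 25, 21], [8, 16]), ([24, 20, 32, 25, 27, 21, 30, 27, 30], [10, 7]), ([24, 22, 25, 23], [])]
theorem thc1 : tcOK 5 32 (HI 6).length thn thr ths = true := by decide +kernel
theorem thc2 : (mkTc 5 32 (HI 6).length thn 0 thr ths []).run 27 thst (bit 0) 0 = true := by decide +kernel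
theorem thc3 : tqOK (eqK eM [HX]) (HI 6) (qI 6) (BI 6) thr ths thv = true := by decide +kernel
noncomputable def tan_0 : List (ℕ × ℕ) := [(nat_lit 1, nat_lit 0x441), (nat_lit 2, nat_lit 0x10), (nat_lit 4, nat_lit 0x30), (nat_lit 4, nat_lit 0xc), (nat_lit 2, nat_lit 0x10), (nat_lit 1, nat_lit 0x40)]
noncomputable def tan_1 : List (ℕ × ℕ) := [(nat_lit 1, nat_lit 0x11), (nat_lit 2, nat_lit 0x13), (nat_lit 4, nat_lit 0x30), (nat_lit 4, nat_lit 0xc), (nat_lit 2, nat_lit 0x320), (nat_lit 1, nat_lit 0x440)]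
noncomputable def tan : List (List (ℕ × ℕ)) := [tan_0, tan_1]
noncomputable def tas : List (List ℕ) := []
noncomputable def tast : List (ℕ × ℕ × ℕ) := [(0, 0, bit 0), (1, 0, 0), (0, 2, bit 0), (0, 0, bit 2), (1, 0, 0), (0, 2, bit 1), (0, 0, bit 3), (1, 0, 0), (0, 2, bit 2), (1, 1, 0), (0, 0, bit 5), (1, 0, 0), (1, 2, 1), (0, 2, bit 3), (1, 1, 0), (0, 0, bit 7), (1, 0, 0), (1, 2, 1), (0, 2, bit 8), (1, 1, 0), (0, 0, bit 10), (1, 0, 0), (1, 2, 1)]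
noncomputable def tar : List (List ℕ) := [[0, 0], [2, 2, 2], [0, 2, 0, 2, 0, 2]]
noncomputable def tav : List (List ℕ × List ℕ) := [([36, 36], []), ([22, 22, 22], []), ([36, 22, 36, 22, 36, 22], [])]
theorem tac1 : tcOK 4 12 [18, 11].length tan tar tas = true := by decide +kernel
theorem tac2 : (mkTc 4 12 [18, 11].length tan 0 tar tas []).run 12 tast (bit 0) 0 = true := by decide +kernel
theorem tac3 : tqOK (eqK eM [HX]) [18, 11] [] [] tar tas tav = true := by decide +kernel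
noncomputable def tbn_0 : List (ℕ × ℕ) := [(nat_lit 1, nat_lit 0x441), (nat_lit 2, nat_lit 0x10), (nat_lit 4, nat_lit 0x30), (nat_lit 4, nat_lit 0xc), (nat_lit 2, nat_lit 0x10), (nat_lit 1, nat_lit 0x40)]
noncomputable def tbn_1 : List (ℕ × ℕ) := [(nat_lit 1, nat_lit 0x11), (nat_lit 2, nat_lit 0x13), (nat_lit 4, nat_lit 0x30), (nat_lit 4, nat_lit 0xc), (nat_lit 2, nat_lit 0x320), (nat_lit 1, nat_lit 0x440)]
noncomputable def tbn : List (List (ℕ × ℕ)) := [tbn_0, tbn_1]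
noncomputable def tbs : List (List ℕ) := []
noncomputable def tbst : List (ℕ × ℕ × ℕ) := [(0, 0, bit 0), (1, 0, 0), (0, 2, bit 0), (0, 0, bit 2), (1, 0, 0), (0, 2, bit 1), (0, 0, bit 3), (1, 0, 0), (0, 2, bit 2), (1, 1, 0), (0, 0, bit 5), (1, 0, 0), (1, 2, 1), (0, 2, bit 3), (1, 1, 0), (0, 0, bit 7), (1, 0, 0), (1, 2, 1), (0, 2, bit 8), (1, 1, 0), (0, 0, bit 10), (1, 0, 0), (1, 2, 1)]
noncomputable def tbr : List (List ℕ) := [[0, 0], [2, 2, 2], [0, 2, 0, 2, 0, 2]]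
noncomputable def tbv : List (List ℕ × List ℕ) := [([38, 38], []), ([22, 22, 22], []), ([38, 22, 38, 22, 38, 22], [])]
theorem tbc1 : tcOK 4 12 [19, 11].length tbn tbr tbs = true := by decide +kernel
theorem tbc2 : (mkTc 4 12 [19, 11].length tbn 0 tbr tbs []).run 12 tbst (bit 0) 0 = true := by decide +kernel
theorem tbc3 : tqOK (eqK eM [HX]) [19, 11] [] [] tbr tbs tbv = true := by decide +kernel
noncomputable def tvn_0 : List (ℕ × ℕ) := [(nat_lit 1, nat_lit 0x5)]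
noncomputable def tvn_1 : List (ℕ × ℕ) := [(nat_lit 2, nat_lit 0x3)]
noncomputable def tvn : List (List (ℕ × ℕ)) := [tvn_0, tvn_1]
noncomputable def tvs : List (List ℕ) := []
noncomputable def tvst : List (ℕ × ℕ × ℕ) := [(0, 0, bit 0), (1, 0, 0), (0, 2, bit 0), (1, 1, 0), (0, 0, bit 2), (1, 0, 0), (1, 2, 1)]
noncomputable def tvr : List (List ℕ) := [[0, 0], [2, 2], [0, 2, 0, 2]]
noncomputable def tvv : List (List ℕ × List ℕ) := [([36, 36], []), ([42, 42], []), ([36, 42, 36, 42], [])]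
theorem tvc1 : tcOK 2 4 [18, 21].length tvn tvr tvs = true := by decide +kernel
theorem tvc2 : (mkTc 2 4 [18, 21].length tvn 0 tvr tvs []).run 4 tvst (bit 0) 0 = true := by decide +kernel
theorem tvc3 : tqOK (eqK eM [HX]) [18, 21] [] [] tvr tvs tvv = true := by decide +kernel
noncomputable def tpn_0 : List (ℕ × ℕ) := [(nat_lit 1, nat_lit 0x15105141400010551505), (nat_lit 2, nat_lit 0x121020002220102111300), (nat_lit 4, nat_lit 0x7090f070a0f080e080e), (nat_lit 8, nat_lit 0xe900cd00de00160090), (nat_lit 16, nat_lit 0x7a0000314e0000ffc0), (nat_lit 32, nat_lit 0x3e0000), (nat_lit 32, nat_lit 0x7e1c8400000000), (nat_lit 32, nat_lit 0x7f80c000), (nat_lit 16, nat_lit 0x7a0000b61000000000), (nat_lit 8, nat_lit 0x920012009100b10000), (nat_lit 4, nat_lit 0x100010e0101030c0000), (nat_lit 2, nat_lit 0x100302100021030122000), (nat_lit 1, nat_lit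 0x1150141014011000000)]
noncomputable def tpn_1 : List (ℕ × ℕ) := [(nat_lit 1, nat_lit 0x111540014505154005550), (nat_lit 2, nat_lit 0x30232020112201311121), (nat_lit 4, nat_lit 0x200080802090308020202), (nat_lit 8, nat_lit 0x2800a000df000000dc), (nat_lit 16, nat_lit 0x403000004920000fbe0), (nat_lit 32, nat_lit 0x4038000), (nat_lit 32, nat_lit 0x423d35400000000), (nat_lit 32, nat_lit 0x739c0800), (nat_lit 16, nat_lit 0x4030000b00800000000), (nat_lit 8, nat_lit 0x700d8002400000000), (nat_lit 4, nat_lit 0x20a000005090a020d0000), (nat_lit 2, nat_lit 0x20222131232201002100), (nat_lit 1, nat_lit 0x154015440505501154100)]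
noncomputable def tpn_2 : List (ℕ × ℕ) := [(nat_lit 1, nat_lit 0x140510141111454151014), (nat_lit 2, nat_lit 0x22332121130113203223), (nat_lit 4, nat_lit 0x2060e020d03090e0c0b06), (nat_lit 8, nat_lit 0x6200c800f00040007c), (nat_lit 16, nat_lit 0x412b00004a6d00002db0), (nat_lit 32, nat_lit 0x10b2000), (nat_lit 32, nat_lit 0x410b289400000000), (nat_lit 32, nat_lit 0x4f49000), (nat_lit 16, nat_lit 0x410b0000819900000000), (nat_lit 8, nat_lit 0x690074002600880000), (nat_lit 4, nat_lit 0x208080d01000c010e0000), (nat_lit 2, nat_lit 0x10130210210100003030), (nat_lit 1, nat_lit 0x141110041110445100100)]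
noncomputable def tpn_3 : List (ℕ × ℕ) := [(nat_lit 1, nat_lit 0x105040455000145504501), (nat_lit 2, nat_lit 0x12230030011013033020), (nat_lit 4, nat_lit 0x2010600060a0c0406080f), (nat_lit 8, nat_lit 0x83005200fd0000001e), (nat_lit 16, nat_lit 0x205e0000045a0000b7e0), (nat_lit 32, nat_lit 0x201e4100), (nat_lit 32, nat_lit 0x207e478000000000), (nat_lit 32, nat_lit 0x8fc13800), (nat_lit 16, nat_lit 0x205e000042de00000000), (nat_lit 8, nat_lit 0xeb0024000300440000), (nat_lit 4, nat_lit 0x2020d040f0e0601070800), (nat_lit 2, nat_lit 0x1301210002301001110), (nat_lit 1, nat_lit 0x105451400150140410540)]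
noncomputable def tpn : List (List (ℕ × ℕ)) := [tpn_0, tpn_1, tpn_2, tpn_3]
noncomputable def tps : List (List ℕ) := []
noncomputable def tpst : List (ℕ × ℕ × ℕ) := [(0, 4, bit 0), (0, 4, bit 3), (1, 0, 0), (0, 3, bit 0), (0, 4, bit 9), (1, 1, 0), (0, 4, bit 27), (1, 0, 0), (1, 1, 0), (0, 3, bit 9), (1, 2, 0), (0, 4, bit 2), (1, 1, 0), (0, 4, bit 10), (1, 0, 0), (1, 1, 0), (0, 1, bit 0), (0, 4, bit 5), (1, 3, 0), (0, 4, bit 18), (1, 0, 0), (1, 3, 0), (0, 3, bit 5), (1, 4, 2), (0, 4, bit 42), (1, 1, 0), (1, 3, 0), (0, 4, bit 72), (1, 0, 0), (1, 1, 0), (1, 3, 0), (0, 3, bit 42), (1, 2, 0), (1, 4, 0), (0, 4, bit 17), (1, 1, 0), (1, 3, 0), (0, 4, bit 43), (1, 0, 0), (1, 1, 0), (1, 3, 0), (0, 1, bit 5), (1, 5, 0), (0, 4, bit 1), (1, 3, 0), (0, 4, bit 7), (1, 0, 0), (1, 3, 0), (0, 3, bit 1), (1, 4, 2), (0, 4, bit 20), (1, 1, 0), (1, 3, 0),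 (0, 4, bit 48), (1, 0, 0), (1, 1, 0), (1, 3, 0), (0, 3, bit 20), (1, 2, 0), (1, 4, 0), (0, 4, bit 6), (1, 1, 0), (1, 3, 0), (0, 4, bit 21), (1, 0, 0), (1, 1, 0), (1, 3, 0), (0, 6, bit 0), (0, 4, bit 4), (1, 6, 3), (0, 4, bit 13), (1, 0, 0), (1, 6, 1), (0, 3, bit 4), (1, 7, 1), (0, 4, bit 31), (1, 1, 0), (1, 6, 3), (0, 4, bit 19), (1, 0, 0), (1, 1, 0), (1, 6, 1), (0, 3, bit 19), (1, 2, 0), (1, 7, 1), (0, 4, bit 36), (1, 1, 0), (1, 6, 3), (0, 4, bit 8), (1, 0, 0), (1, 1, 0), (1, 6, 1), (0, 1, bit 4), (1, 8, 1), (0, 4, bit 32), (1, 3, 0), (1, 6, 3), (0, 4, bit 62), (1, 0, 0), (1, 3, 0), (1, 6, 1), (0, 3, bit 22), (1, 4, 2), (1, 7, 1), (0, 4, bit 61), (1, 1, 0), (1, 3, 0), (1, 6, 3), (0, 4, bit 11), (1, 0, 0), (1, 1, 0), (1, 3, 0), (1, 6, 1), (0, 3, bit 11), (1, 2, 0), (1, 4, 0), (1, 7, 1), (0, 4, bit 59), (1, 1, 0), (1, 3, 0), (1, 6,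 3), (0, 4, bit 44), (1, 0, 0), (1, 1, 0), (1, 3, 0), (1, 6, 1), (0, 1, bit 11), (1, 5, 0), (1, 8, 1), (0, 4, bit 60), (1, 3, 0), (1, 6, 3), (0, 4, bit 46), (1, 0, 0), (1, 3, 0), (1, 6, 1), (0, 3, bit 46), (1, 4, 2), (1, 7, 1), (0, 4, bit 58), (1, 1, 0), (1, 3, 0), (1, 6, 3), (0, 4, bit 24), (1, 0, 0), (1, 1, 0), (1, 3, 0), (1, 6, 1), (0, 3, bit 24), (1, 2, 0), (1, 4, 0), (1, 7, 1), (0, 4, bit 66), (1, 1, 0), (1, 3, 0), (1, 6, 3), (0, 4, bit 14), (1, 0, 0), (1, 1, 0), (1, 3, 0), (1, 6, 1), (0, 6, bit 4), (1, 9, 0), (0, 4, bit 16), (1, 6, 3), (0, 4, bit 37), (1, 0, 0), (1, 6, 1), (0, 3, bit 16), (1, 7, 1), (1, 8, 3), (0, 4, bit 52), (1, 1, 0), (1, 6, 3), (0, 4, bit 65), (1, 0, 0), (1, 1, 0), (1, 6, 1), (0, 3, bit 52), (1, 2, 0), (1, 7, 1), (1, 8, 1), (0, 4, bit 41), (1, 1, 0), (1, 6, 3), (0, 4, bit 69), (1, 0, 0), (1, 1, 0), (1, 6, 1),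 (0, 1, bit 16), (1, 7, 1), (1, 8, 1), (0, 4, bit 71), (1, 3, 0), (1, 6, 3), (0, 4, bit 53), (1, 0, 0), (1, 3, 0), (1, 6, 1), (0, 3, bit 53), (1, 4, 2), (1, 7, 1), (0, 4, bit 68), (1, 1, 0), (1, 3, 0), (1, 6, 3), (0, 4, bit 26), (1, 0, 0), (1, 1, 0), (1, 3, 0), (1, 6, 1), (0, 3, bit 26), (1, 2, 0), (1, 4, 0), (1, 7, 1), (0, 4, bit 74), (1, 1, 0), (1, 3, 0), (1, 6, 3), (0, 4, bit 79), (1, 0, 0), (1, 1, 0), (1, 3, 0), (1, 6, 1), (0, 1, bit 26), (1, 5, 0), (1, 7, 1), (1, 8, 1), (0, 4, bit 80), (1, 3, 0), (1, 6, 3), (0, 4, bit 75), (1, 0, 0), (1, 3, 0), (1, 6, 1), (0, 3, bit 75), (1, 4, 2), (1, 7, 1), (0, 4, bit 64), (1, 1, 0), (1, 3, 0), (1, 6, 3), (0, 4, bit 47), (1, 0, 0), (1, 1, 0), (1, 3, 0), (1, 6, 1), (0, 3, bit 47), (1, 2, 0), (1, 4, 0), (1, 7, 1), (0, 4, bit 33), (1, 1, 0), (1, 3, 0), (1, 6, 3), (0, 4, bit 63), (1, 0, 0), (1, 1,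 0), (1, 3, 0), (1, 6, 1)]
noncomputable def tpr : List (List ℕ) := [[4, 4, 4], [2, 4, 3, 5], [2, 2, 2], [0, 4, 1, 5], [0, 2, 1, 3], [0, 0, 0], [4, 6, 5, 7], [0, 7, 3, 6, 4], [0, 6, 2, 7, 2], [6, 6, 6]]
noncomputable def tpv : List (List ℕ × List ℕ) := [([26, 26, 26], []), ([24, 26, 25, 27], []), ([24, 24, 24], []), ([22, 26, 23, 27], []), ([22, 24, 23, 25], []), ([22, 22, 22], []), ([26, 46, 27, 47], []), ([22, 47, 25, 46, 26], []), ([22, 46, 24, 47, 24], []), ([46, 46, 46], [])]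
theorem tpc1 : tcOK 7 96 [11, 12, 13, 23].length tpn tpr tps = true := by decide +kernel
theorem tpc2 : (mkTc 7 96 [11, 12, 13, 23].length tpn 0 tpr tps []).run 81 tpst (bit 0) 0 = true := by decide +kernel
theorem tpc3 : tqOK (eqK eM [HX]) [11, 12, 13, 23] [] [] tpr tps tpv = true := by decide +kernel
noncomputable def tnn_0 : List (ℕ × ℕ) := [(nat_lit 1, nat_lit 0x1)]
noncomputable def tnn : List (List (ℕ × ℕ)) := [tnn_0, [], [], [], [], [], [], [], [], [], [], []]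
noncomputable def tns : List (List ℕ) := [[2], [4], [6], [8], [10], [12], [14], [16], [18], [20], [22]]
noncomputable def tnst : List (ℕ × ℕ × ℕ) := [(2, 0, 0), (2, 1, 0), (2, 2, 0), (2, 3, 0), (2, 4, 0), (2, 5, 0), (2, 6, 0), (2, 7, 0), (2, 8, 0), (2, 9, 0), (2, 10, 0), (0, 0, bit 0), (1, 0, 0), (1, 1, 0), (1, 2, 0), (1, 3, 0), (1, 4, 0), (1, 5, 0), (1, 6, 0), (1, 7, 0), (1, 8, 0), (1, 9, 0), (1, 10, 0), (1, 11, 0)]
noncomputable def tnr : List (List ℕ) := [[2], [4], [6], [8], [10], [12], [14], [16], [18], [20], [22], [0, 0]]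
noncomputable def tnv : List (List ℕ × List ℕ) := [([40, 22, 41], [23]), ([40, 0, 41], [0]), ([40, 2, 41], [2]), ([40, 8, 41], [10]), ([40, 10, 41], [8]), ([40, 16, 41], [16]), ([40, 18, 41], [18]), ([40, 24, 41], [0, 27, 8, 0]), ([40, 26, 41], [10, 0, 25, 0]), ([40, 32, 41], [34]), ([40, 34, 41], [32]), ([40, 40], [])]
theorem tnc1 : tcOK 1 2 (20 :: CY).length tnn tnr tns = true := by decide +kernel
theorem tnc2 : (mkTc 1 2 (20 :: CY).length tnn 0 tnr tns []).run 2 tnst (bit 0) 0 = true := by decide +kernel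
theorem tnc3 : tqOK (eqK eM [HX, LX]) (20 :: CY) CY CY tnr tns tnv = true := by decide +kernel
noncomputable def cls : List Bk.Lv := [⟨5, 54, 7, 128, [[4], [5], [8], [9]]⟩, ⟨2, 8, 7, 128, [[0], [1]]⟩, ⟨16, 2, 7, 128, [[0]]⟩, ⟨32, 2, 7, 128, []⟩]
noncomputable def ctr : List ℕ := [21, 21, 25, 21, 21, 0, 25, 0, 26, 0, 27, 0, 29, 0, 30, 0, 35, 0, 0, 22, 22, 0, 25, 0, 28, 0, 30, 28, 0, 0, 35, 0, 0, 27, 35, 0, 0, 29, 22, 0, 25, 0, 26, 22, 0, 0, 28, 22, 0, 0, 29, 0, 35, 0, 0, 30, 22, 0, 25, 0, 35, 0, 0, 35, 25, 21, 0, 29, 0, 0, 0, 0, 26, 21, 25, 0, 26, 29, 0, 0, 27, 21, 0, 29, 0, 0, 28, 0, 0, 22, 29, 26, 0, 0, 30, 26, 0, 0, 35, 0, 0, 30, 22, 0, 25, 0, 26, 0, 35, 0, 0, 35, 21, 0, 22, 0, 25, 0, 26, 0, 0, 0, 27, 21, 21, 26, 0, 0, 26, 0, 27, 0, 35, 0, 0, 22, 22, 0, 27, 0, 29, 0, 0, 29, 21, 0, 22, 0, 26, 0, 27, 0, 0, 0, 28, 21, 25, 0, 27, 0,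 0, 22, 26, 0, 27, 0, 28, 0, 0, 29, 26, 0, 0, 0, 29, 25, 28, 0, 29, 0, 30, 0, 35, 0, 0, 26, 22, 0, 29, 0, 0, 28, 21, 0, 22, 27, 0, 0, 29, 21, 0, 0, 0, 0, 0, 25, 21, 21, 25, 0, 27, 35, 0, 0, 29, 27, 0, 0, 30, 0, 35, 0, 0, 25, 27, 0, 28, 0, 35, 0, 0, 26, 27, 0, 29, 0, 0, 27, 21, 0, 22, 0, 29, 0, 30, 0, 0, 28, 22, 0, 29, 26, 0, 0, 0, 29, 28, 0, 35, 0, 0, 30, 21, 27, 0, 0, 35, 0, 0, 35, 22, 0, 0, 0, 22, 22, 25, 21, 0, 0, 26, 0, 29, 0, 0, 27, 0, 28, 21, 0, 29, 0, 35, 0, 0, 29, 21, 0, 22, 0, 0, 30, 21, 25, 0, 0, 27, 0, 28, 22, 0, 0, 35, 0, 0, 35, 21, 27, 0, 0, 22, 29, 0, 0, 0, 0, 27, 22, 25, 0, 26, 0, 27, 0, 28, 0, 0, 29, 21, 0, 22, 0, 29, 0, 0, 30, 21, 0, 22, 0, 25, 0, 27, 0, 28, 0, 35, 0, 0, 35, 0, 0, 28, 21, 21, 0, 25, 0, 29, 0, 0, 22, 25, 0, 28, 0, 29, 0, 0, 29, 35, 0, 0, 35, 25, 0, 0, 0, 29, 21, 21, 0, 26, 0, 27, 0, 28, 0, 29, 0, 30,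 0, 0, 22, 22, 0, 0, 25, 21, 0, 27, 0, 28, 0, 29, 0, 30, 0, 35, 26, 0, 0, 0, 27, 21, 0, 29, 0, 35, 0, 0, 28, 22, 0, 29, 21, 0, 0, 35, 22, 0, 0, 0, 29, 26, 0, 28, 0, 35, 0, 0, 35, 21, 0, 25, 0, 26, 30, 0, 0, 0, 0, 30, 21, 25, 0, 27, 0, 28, 0, 35, 0, 0, 22, 26, 0, 28, 0, 0, 25, 28, 0, 35, 0, 0, 26, 27, 0, 28, 0, 29, 0, 0, 27, 35, 0, 0, 28, 21, 0, 22, 0, 29, 0, 35, 0, 0, 35, 21, 0, 25, 0, 26, 0, 0, 0, 35, 21, 25, 0, 26, 0, 29, 0, 30, 0, 35, 0, 0, 22, 29, 0, 30, 0, 0, 25, 21, 0, 22, 0, 35, 0, 0, 0, 0, 26, 21, 21, 26, 0, 28, 0, 0, 25, 27, 0, 35, 0, 0, 27, 21, 0, 0, 28, 22, 0, 29, 0, 30, 0, 0, 29, 22, 0, 26, 0, 28, 0, 0, 30, 22, 0, 26, 0, 27, 0, 35, 0, 0, 35, 21, 0, 0, 0, 22, 22, 27, 0, 28, 0, 0, 25, 27, 0, 29, 0, 0, 26, 27, 0, 28, 0, 0, 27, 21, 0, 0, 28, 0, 29, 21, 0, 22, 0, 0, 30, 25, 0, 26, 0, 0, 35, 22, 0, 25, 0, 0, 0, 27, 21, 21, 0,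 29, 0, 0, 22, 28, 0, 0, 30, 22, 0, 25, 0, 28, 0, 0, 35, 0, 0, 28, 22, 27, 0, 0, 29, 21, 0, 35, 0, 0, 30, 26, 0, 35, 0, 0, 35, 0, 0, 29, 21, 25, 0, 26, 0, 0, 22, 27, 0, 28, 0, 35, 0, 0, 25, 22, 0, 0, 26, 27, 0, 29, 0, 30, 0, 0, 27, 22, 0, 0, 28, 35, 0, 0, 29, 28, 0, 0, 35, 0, 0, 30, 22, 25, 0, 0, 25, 21, 0, 27, 0, 28, 0, 0, 26, 0, 27, 22, 28, 0, 0, 0, 28, 0, 35, 0, 0, 35, 21, 30, 0, 0, 22, 29, 0, 0, 0, 0, 27, 21, 21, 27, 0, 30, 0, 0, 25, 22, 0, 30, 0, 0, 26, 21, 0, 22, 0, 28, 0, 29, 0, 0, 27, 35, 0, 0, 28, 29, 0, 30, 0, 0, 29, 26, 0, 27, 0, 35, 0, 0, 30, 21, 0, 26, 0, 27, 0, 0, 35, 22, 0, 25, 0, 26, 0, 0, 0, 22, 22, 0, 25, 22, 0, 27, 0, 28, 0, 35, 0, 0, 26, 28, 0, 29, 0, 0, 27, 0, 28, 21, 0, 0, 29, 35, 0, 0, 30, 0, 35, 0, 0, 29, 21, 25, 0, 26, 0, 27, 0, 0, 25, 21, 0, 27, 0, 28, 0, 35, 0, 0, 26, 21, 0, 27, 0, 0, 27, 0, 28, 21, 0, 29,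 0, 0, 29, 28, 0, 0, 0, 30, 21, 21, 0, 26, 0, 0, 27, 0, 28, 29, 0, 0, 0, 35, 21, 21, 0, 25, 0, 0, 22, 22, 0, 29, 0, 0, 25, 22, 0, 29, 0, 30, 0, 0, 26, 0, 0, 0, 28, 21, 21, 0, 25, 0, 26, 21, 0, 22, 0, 0, 27, 21, 0, 0, 28, 30, 0, 35, 0, 0, 29, 27, 0, 28, 0, 0, 30, 21, 0, 27, 0, 28, 0, 35, 0, 0, 35, 21, 0, 22, 0, 0, 0, 22, 22, 26, 0, 0, 25, 35, 0, 0, 26, 21, 0, 0, 30, 35, 0, 0, 35, 0, 0, 29, 21, 27, 0, 35, 0, 0, 22, 25, 0, 26, 0, 35, 0, 0, 25, 21, 0, 22, 0, 27, 0, 0, 26, 30, 0, 0, 27, 0, 28, 0, 29, 25, 0, 35, 0, 0, 35, 25, 0, 26, 0, 0, 0, 30, 21, 35, 0, 0, 22, 0, 25, 22, 0, 29, 0, 35, 0, 0, 26, 28, 0, 0, 28, 0, 35, 21, 0, 22, 0, 0, 0, 35, 21, 25, 0, 26, 0, 0, 22, 29, 0, 0, 26, 21, 0, 0, 0, 0, 29, 21, 25, 21, 0, 27, 0, 0, 26, 29, 0, 0, 27, 0, 28, 29, 0, 0, 29, 0, 0, 22, 25, 0, 27, 21, 0, 22, 0, 0, 0, 25, 21, 26, 0, 0, 22, 26, 0, 0, 27,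 0, 28, 22, 0, 30, 0, 0, 29, 25, 0, 0, 35, 25, 0, 0, 0, 26, 21, 29, 0, 0, 28, 29, 0, 0, 29, 0, 30, 0, 0, 27, 21, 21, 0, 29, 0, 0, 22, 26, 0, 0, 29, 21, 0, 26, 0, 28, 0, 0, 30, 26, 0, 28, 0, 0, 0, 28, 21, 29, 0, 30, 0, 0, 22, 0, 29, 0, 0, 35, 25, 35, 0, 0, 26, 0, 0, 0, 35, 25, 22, 0, 29, 25, 0, 27, 0, 0, 30, 25, 0, 27, 0, 0, 0, 26, 21, 26, 0, 27, 0, 29, 0, 30, 0, 0, 22, 0, 29, 0, 0, 0, 0, 22, 22, 26, 21, 0, 22, 27, 0, 28, 0, 0, 29, 0, 35, 21, 0, 0, 0, 28, 21, 29, 0, 0, 22, 25, 0, 0, 29, 0, 30, 25, 0, 26, 0, 0, 35, 22, 0, 0, 0, 29, 25, 21, 0, 0, 26, 21, 0, 27, 0, 29, 0, 0, 27, 0, 0, 35, 25, 0, 26, 0, 0, 0, 25, 21, 27, 0, 28, 0, 30, 0, 35, 0, 0, 22, 25, 0, 26, 0, 27, 22, 0, 0, 28, 0, 35, 21, 0, 0, 0, 27, 21, 26, 0, 0, 29, 0, 30, 0, 0, 28, 22, 0, 29, 25, 0, 0, 0, 29, 25, 0, 26, 0, 28, 21, 0, 22, 0, 0, 0, 30, 22, 0, 25, 0, 0, 0, 26, 21,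 21, 0, 25, 27, 0, 28, 0, 0, 26, 0, 27, 21, 0, 0, 28, 0, 29, 28, 0, 0, 30, 0, 0, 22, 26, 0, 29, 0, 30, 0, 0, 27, 21, 26, 0, 28, 0, 0, 22, 35, 0, 0, 29, 21, 0, 0, 35, 0, 0, 28, 29, 21, 0, 26, 0, 0, 30, 0, 35, 0, 0, 29, 21, 28, 0, 0, 22, 27, 0, 30, 0, 0, 25, 21, 0, 28, 0, 29, 0, 0, 26, 0, 28, 22, 0, 0, 29, 0, 35, 0, 0, 30, 21, 28, 0, 0, 22, 0, 25, 21, 0, 29, 0, 0, 26, 0, 35, 26, 0, 0, 0, 35, 22, 0, 0, 0, 27, 21, 26, 28, 0, 29, 0, 0, 28, 29, 0, 0, 29, 0, 30, 0, 35, 0, 0, 22, 25, 0, 26, 22, 0, 0, 27, 35, 0, 0, 28, 35, 0, 0, 35, 0, 0, 29, 21, 0, 22, 0, 25, 0, 27, 30, 0, 0, 28, 0, 35, 0, 0, 30, 21, 0, 26, 28, 0, 35, 0, 0, 27, 0, 28, 0, 35, 0, 0, 35, 22, 0, 0, 0, 28, 21, 21, 35, 0, 0, 26, 21, 0, 0, 29, 26, 0, 0, 30, 0, 35, 25, 0, 0, 0, 22, 22, 0, 25, 0, 26, 0, 28, 0, 29, 0, 30, 0, 0, 29, 21, 30, 0, 0, 22, 0, 25, 29, 0, 0, 26, 0, 29, 0, 0,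 30, 21, 25, 0, 0, 22, 0, 0, 0, 29, 21, 26, 0, 27, 0, 28, 29, 0, 0, 0, 25, 21, 0, 22, 0, 28, 0, 29, 0, 0, 26, 21, 26, 0, 0, 28, 0, 29, 25, 0, 27, 0, 0, 30, 27, 0, 0, 35, 0, 0, 28, 21, 0, 22, 0, 0, 0, 35, 22, 25, 29, 0, 0, 26, 22, 0, 29, 0, 35, 0, 0, 27, 0, 0, 26, 21, 0, 29, 26, 0, 35, 0, 0, 30, 26, 0, 0, 35, 0, 0, 0, 0, 29, 22, 25, 21, 28, 0, 29, 0, 0, 22, 25, 0, 0, 27, 0, 28, 0, 29, 29, 0, 0, 30, 28, 0, 0, 0, 26, 22, 0, 28, 0, 35, 0, 0, 27, 21, 0, 30, 0, 0, 28, 29, 0, 0, 0, 25, 21, 21, 0, 25, 35, 0, 0, 26, 0, 27, 0, 28, 0, 29, 0, 0, 22, 25, 0, 26, 27, 0, 0, 27, 0, 28, 0, 35, 0, 0, 27, 22, 0, 30, 0, 35, 0, 0, 28, 21, 0, 22, 0, 35, 0, 0, 29, 21, 26, 0, 0, 25, 21, 0, 0, 27, 0, 28, 0, 35, 0, 0, 35, 21, 25, 0, 0, 22, 0, 0, 0, 26, 21, 29, 0, 35, 21, 0, 0, 0, 22, 27, 22, 0, 0, 28, 29, 0, 0, 29, 28, 0, 0, 0, 27, 29, 25, 0, 28, 0, 0, 35, 0,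 0, 29, 27, 0, 0, 35, 22, 0, 0, 0, 27, 21, 25, 29, 0, 0, 26, 35, 0, 0, 29, 26, 0, 0, 0, 22, 22, 0, 29, 21, 0, 0, 0, 29, 27, 0, 0, 0, 28, 21, 25, 0, 26, 0, 28, 0, 0, 22, 22, 29, 0, 0, 25, 0, 26, 0, 29, 0, 0, 29, 21, 0, 22, 29, 0, 0, 26]
theorem M_cen : cenW 6 (eqK eM [HX]) T (HI 6) 3317760 16 49655 960 [1, 2, 4, 8, 16, 32] [22] ctr (ltW CH) cls = true ∧ (cls.map Bk.Lv.a).prod = 1728 := by decide +kernel
noncomputable def sylL : List (List ℕ × List ℕ × List (ℕ × ℕ)) := [([], [], []), ([22], [], []), ([23], [40], []), ([24], [], [(0, 0), (80, 1), (34, 2), (50, 3), (72, 4), (24, 5), (106, 6), (122, 7), (12, 8)]), ([25], [], [(0, 0), (17, 1), (32, 2), (49, 3), (76, 4), (93, 5), (108, 6), (125, 7), (68, 8)]), ([26], [], [(0, 0), (97, 1), (16, 2), (49, 3), (72, 4), (41, 5), (88, 6), (121, 7), (12, 8)]), ([27], [], [(0, 0), (96, 1), (82, 2),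 (50, 3), (76, 4), (44, 5), (30, 6), (126, 7), (68, 8)]), ([46], [], [(0, 0), (125, 1), (93, 2), (32, 3), (54, 4), (75, 5), (107, 6), (22, 7), (55, 16)]), ([47], [], [(0, 0), (60, 1), (119, 2), (75, 3), (87, 4), (107, 5), (32, 6), (28, 7), (106, 16)]), ([24, 22], [], [(0, 0), (80, 1), (34, 2), (50, 3), (76, 4), (28, 5), (110, 6), (126, 7), (68, 8)]), ([25, 22], [], [(0, 0), (17, 1), (32, 2), (49, 3), (65, 16), (80, 17), (33, 18), (48, 19), (34, 32)]), ([26, 22], [], [(0, 0), (97, 1), (16, 2), (49, 3), (76, 4), (45, 5), (92, 6), (125, 7), (68, 8)]), ([27, 22], [], [(0, 0), (96, 1), (82, 2), (50, 3), (66, 16), (98, 17), (16, 18), (48, 19), (97, 32)]), ([46, 22], [], [(0, 0), (125, 1), (93, 2), (32, 3), (117, 4), (72, 5), (104, 6), (85, 7), (122, 8)]), ([47, 22], [], [(0, 0), (60, 1), (119, 2), (75, 3), (52, 4), (72, 5), (67, 6), (63,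 7), (27, 8)]), ([24, 23], [], [(0, 0), (80, 1), (34, 2), (50, 3), (17, 16), (65, 17), (115, 18), (99, 19), (2, 32)]), ([25, 23], [], [(0, 0), (17, 1), (32, 2), (49, 3), (72, 4), (89, 5), (104, 6), (121, 7), (12, 8)]), ([26, 23], [], [(0, 0), (97, 1), (16, 2), (49, 3), (82, 16), (51, 17), (66, 18), (99, 19), (1, 32)]), ([27, 23], [], [(0, 0), (96, 1), (82, 2), (50, 3), (72, 4), (40, 5), (26, 6), (122, 7), (12, 8)]), ([46, 23], [], [(0, 0), (125, 1), (93, 2), (32, 3), (7, 4), (58, 5), (26, 6), (39, 7), (57, 8)]), ([47, 23], [], [(0, 0), (60, 1), (119, 2), (75, 3), (39, 4), (91, 5), (16, 6), (108, 7), (120, 8)]), ([26, 24], [], [(0, 0), (35, 1), (76, 4), (111, 5), (68, 8), (103, 9), (8, 12), (43, 13), (48, 16)]), ([27, 24], [20, 24, 32, 38], []), ([46, 24], [], [(0, 0), (26, 1), (105, 2), (115, 3), (117, 4), (111, 5), (92, 6), (70, 7),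 (122, 8)]), ([47, 24], [], [(0, 0), (6, 1), (73, 2), (15, 3), (52, 4), (114, 5), (61, 6), (59, 7), (27, 8)]), ([26, 25], [21, 27, 34, 36], []), ([27, 25], [], [(0, 0), (19, 1), (72, 4), (91, 5), (12, 8), (31, 9), (4, 12), (23, 13), (99, 16)]), ([46, 25], [], [(0, 0), (38, 1), (54, 2), (80, 3), (7, 4), (97, 5), (113, 6), (87, 7), (57, 8)]), ([47, 25], [], [(0, 0), (123, 1), (60, 2), (7, 3), (39, 4), (28, 5), (91, 6), (32, 7), (120, 8)]), ([46, 26], [], [(0, 0), (106, 1), (122, 2), (80, 3), (117, 4), (95, 5), (15, 6), (101, 7), (119, 32)]), ([47, 26], [], [(0, 0), (74, 1), (13, 2), (7, 3), (52, 4), (62, 5), (57, 6), (115, 7), (27, 8)]), ([46, 27], [], [(0, 0), (86, 1), (37, 2), (115, 3), (7, 4), (17, 5), (34, 6), (52, 7), (57, 8)]), ([47, 27], [], [(0, 0), (55, 1), (120, 2), (15, 3), (39, 4), (80, 5), (95, 6), (104, 7), (93, 32)]), ([22,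 46], [], [(0, 0), (57, 1), (25, 2), (32, 3), (54, 4), (79, 5), (111, 6), (22, 7), (75, 8)]), ([23, 46], [], [(0, 0), (117, 1), (85, 2), (32, 3), (54, 4), (3, 5), (35, 6), (22, 7), (75, 8)]), ([24, 46], [], [(0, 0), (106, 1), (122, 2), (80, 3), (7, 4), (45, 5), (61, 6), (87, 7), (57, 8)]), ([25, 46], [], [(0, 0), (86, 1), (37, 2), (115, 3), (117, 4), (35, 5), (16, 6), (70, 7), (122, 8)]), ([22, 47], [], [(0, 0), (120, 1), (127, 2), (7, 3), (87, 4), (111, 5), (104, 6), (80, 7), (107, 8)]), ([23, 47], [], [(0, 0), (52, 1), (59, 2), (15, 3), (87, 4), (35, 5), (108, 6), (24, 7), (107, 8)]), ([24, 47], [], [(0, 0), (123, 1), (60, 2), (7, 3), (52, 4), (79, 5), (72, 6), (115, 7), (27, 8)]), ([25, 47], [], [(0, 0), (6, 1), (73, 2), (15, 3), (39, 4), (97, 5), (110, 6), (104, 7), (120, 8)]), ([26, 24, 22], [20, 24, 27, 30], []), ([27, 24, 22],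 [], [(0, 0), (114, 1), (67, 2), (49, 3), (72, 4), (58, 5), (11, 6), (121, 7), (12, 8)]), ([46, 24, 22], [], [(0, 0), (26, 1), (105, 2), (115, 3), (7, 4), (93, 5), (110, 6), (52, 7), (57, 8)]), ([26, 25, 22], [], [(0, 0), (3, 1), (113, 2), (50, 3), (72, 4), (75, 5), (57, 6), (122, 7), (12, 8)]), ([27, 25, 22], [], [(0, 0), (19, 1), (76, 4), (95, 5), (68, 8), (87, 9), (8, 12), (27, 13), (99, 16)]), ([46, 25, 22], [], [(0, 0), (38, 1), (54, 2), (80, 3), (75, 8), (109, 9), (125, 10), (27, 11), (127, 32)]), ([47, 25, 22], [], [(0, 0), (123, 1), (60, 2), (7, 3), (87, 4), (44, 5), (107, 6), (80, 7), (85, 32)]), ([47, 26, 22], [], [(0, 0), (74, 1), (13, 2), (7, 3), (39, 4), (45, 5), (106, 6), (32, 7), (120, 8)]), ([46, 27, 22], [], [(0, 0), (86, 1), (37, 2), (115, 3), (54, 4), (96, 5), (19, 6), (69, 7), (75, 8)]), ([47, 27, 22], [], [(0, 0),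 (55, 1), (120, 2), (15, 3), (87, 4), (96, 5), (111, 6), (24, 7), (107, 8)]), ([22, 46, 22], [], [(0, 0), (57, 1), (25, 2), (32, 3), (117, 4), (76, 5), (108, 6), (85, 7), (122, 8)]), ([23, 46, 22], [], [(0, 0), (117, 1), (85, 2), (32, 3), (122, 8), (15, 9), (47, 10), (90, 11), (123, 16)]), ([24, 46, 22], [], [(0, 0), (106, 1), (122, 2), (80, 3), (54, 4), (28, 5), (76, 6), (38, 7), (75, 8)]), ([22, 47, 22], [], [(0, 0), (120, 1), (127, 2), (7, 3), (52, 4), (76, 5), (11, 6), (115, 7), (27, 8)]), ([23, 47, 22], [], [(0, 0), (52, 1), (59, 2), (15, 3), (27, 8), (47, 9), (32, 10), (20, 11), (46, 16)]), ([25, 47, 22], [], [(0, 0), (6, 1), (73, 2), (15, 3), (87, 4), (17, 5), (30, 6), (24, 7), (107, 8)]), ([26, 24, 23], [], [(0, 0), (35, 1), (72, 4), (107, 5), (12, 8), (47, 9), (4, 12), (39, 13), (48, 16)]), ([27, 24, 23], [], [(0, 0), (114,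 1), (67, 2), (49, 3), (76, 4), (62, 5), (15, 6), (125, 7), (68, 8)]), ([46, 24, 23], [], [(0, 0), (26, 1), (105, 2), (115, 3), (54, 4), (44, 5), (95, 6), (69, 7), (75, 8)]), ([26, 25, 23], [], [(0, 0), (3, 1), (113, 2), (50, 3), (76, 4), (79, 5), (61, 6), (126, 7), (68, 8)]), ([27, 25, 23], [30, 36, 26, 20], []), ([46, 25, 23], [], [(0, 0), (38, 1), (54, 2), (80, 3), (117, 4), (19, 5), (67, 6), (101, 7), (122, 8)]), ([47, 26, 23], [], [(0, 0), (74, 1), (13, 2), (7, 3), (87, 4), (93, 5), (26, 6), (80, 7), (107, 8)]), ([47, 27, 23], [], [(0, 0), (55, 1), (120, 2), (15, 3), (52, 4), (3, 5), (76, 6), (59, 7), (27, 8)]), ([22, 46, 23], [], [(0, 0), (57, 1), (25, 2), (32, 3), (7, 4), (62, 5), (30, 6), (39, 7), (63, 16)]), ([23, 46, 23], [], [(0, 0), (117, 1), (85, 2), (32, 3), (7, 4), (114, 5), (82, 6), (39, 7), (57, 8)]), ([22, 47, 23],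 [], [(0, 0), (120, 1), (127, 2), (7, 3), (39, 4), (95, 5), (88, 6), (32, 7), (38, 16)]), ([23, 47, 23], [], [(0, 0), (52, 1), (59, 2), (15, 3), (39, 4), (19, 5), (92, 6), (104, 7), (120, 8)]), ([47, 26, 24], [], [(0, 0), (63, 1), (52, 2), (75, 3), (39, 4), (24, 5), (19, 6), (108, 7), (120, 8)]), ([46, 27, 24], [], [(0, 0), (46, 1), (62, 2), (80, 3), (54, 4), (24, 5), (72, 6), (38, 7), (75, 8)]), ([23, 46, 24], [], [(0, 0), (94, 1), (45, 2), (115, 3), (117, 4), (107, 5), (88, 6), (70, 7), (122, 8)]), ([25, 46, 24], [], [(0, 0), (46, 1), (62, 2), (80, 3), (7, 4), (41, 5), (57, 6), (87, 7), (59, 32)]), ([22, 47, 24], [], [(0, 0), (14, 1), (5, 2), (75, 3), (52, 4), (58, 5), (113, 6), (63, 7), (27, 8)]), ([46, 26, 25], [], [(0, 0), (94, 1), (45, 2), (115, 3), (54, 4), (40, 5), (91, 6), (69, 7), (75, 8)]), ([23, 46, 26], [], [(0, 0), (46,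 1), (62, 2), (80, 3), (117, 4), (91, 5), (11, 6), (101, 7), (122, 8)]), ([25, 47, 26], [], [(0, 0), (63, 1), (52, 2), (75, 3), (87, 4), (40, 5), (35, 6), (28, 7), (107, 8)]), ([22, 46, 27], [], [(0, 0), (94, 1), (45, 2), (115, 3), (7, 4), (89, 5), (106, 6), (52, 7), (57, 8)]), ([24, 47, 27], [], [(0, 0), (14, 1), (5, 2), (75, 3), (87, 4), (89, 5), (82, 6), (28, 7), (107, 8)]), ([25, 22, 47], [], [(0, 0), (14, 1), (5, 2), (75, 3), (39, 4), (41, 5), (34, 6), (108, 7), (120, 8)]), ([24, 23, 47], [], [(0, 0), (63, 1), (52, 2), (75, 3), (27, 8), (36, 9), (47, 10), (80, 11), (25, 32)])]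
theorem M_syl : sylOK 6 12 (eqK eM [HX]) T HX [11, 12, 13, 23] [22] sylL = true ∧ Bk.mapF (fpN nM ps) (sylL.map Prod.fst) (fun l => decide l.Nodup) = true ∧ allL (inI HX) (sylL.map Prod.fst) = true ∧ sylL.length = 81 := by decide +kernel
noncomputable def Mv : List (List ℕ × List ℕ) := [([0], [24, 8, 25]), ([4], [8, 10, 21, 10, 20]), ([6], [21, 10, 8, 20]), ([16], [10, 8, 10, 8]), ([26], [40, 25, 2, 40, 10, 8]), ([28], [36, 25, 23, 36, 24, 36, 22]), ([30], [36, 22, 21, 25, 36, 24, 21, 21]), ([32], [25, 36, 24, 23, 20, 20, 25, 36, 24, 20]), ([34], [40, 25, 36, 24, 21, 25, 36, 24, 36, 22]), ([38], [36, 20]), ([42], [22, 36, 23]), ([46], [21, 24, 23, 36, 24, 23, 36, 8, 20])]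
theorem M_M : memsW (eqK eM [HX]) MS (ltW MI) Mv = true := by decide +kernel

end CA.CoT.S
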