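import Cfsg.Agent.Lib.CoT.Sza

/-! Generated data and checks. -/

set_option autoImplicit false
set_option maxRecDepth 100000

namespace CA.CoT.S
open CA.Fi CA.CoT

noncomputable def xls : List Bk.Lv := [⟨1, 54, 7, 128, [[2], [3], [7], [11]]⟩, ⟨16, 20, 7, 128, [[1], [2], [3], [0, 0, 1, 1, 0]]⟩, ⟨4, 24, 7, 128, [[1], [2], [3, 1, 0], [3, 2, 3, 2, 3]]⟩, ⟨8, 8, 7, 128, []⟩]
noncomputable def xws : List (List ℕ) := [[], [16], [0], [8], [32], [0, 16], [8, 16], [32, 16], [8, 0], [32, 0], [32, 8], [8, 0, 16], [32, 0, 16], [32, 8, 16], [32, 8, 0], [32, 8, 0, 16]]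
noncomputable def xv1 : List (List ℕ × List ℕ) := [([36], [25, 29, 6, 24])]
noncomputable def xv2 : List (List ℕ × List ℕ) := [([10, 16, 11], [16]), ([10, 0, 11], [0]), ([10, 8, 11], [8, 16]), ([10, 32, 11], [32, 0, 16]), ([10, 4, 11], [4]), ([10, 6, 11], [6]), ([10, 28, 11], [28]), ([10, 30, 11], [30]), ([10, 22, 11], [22]), ([10, 36, 11], [36, 6, 8]), ([34, 16, 35], [16]), ([34, 0, 35], [0]), ([34, 8, 35], [8, 0, 16]), ([34, 32, 35], [32, 0]), ([34, 4, 35], [4]), ([34, 6, 35], [6]), ([34, 28, 35], [28]), ([34, 30, 35], [30]), ([34, 22, 35], [22]), ([34, 36, 35], [36, 30, 32]), ([2, 16, 3], [16]), ([2, 0, 3], [0, 16]), ([2, 8, 3], [8]), ([2, 32, 3], [32, 8]), ([2, 4, 3], [4]), ([2, 6, 3], [6]), ([2, 28, 3], [29, 5]), ([2, 30, 3], [31, 7]), ([2, 22, 3], [22]), ([2, 36, 3], [36]), ([18, 16, 19], [0]), ([18, 0, 19], [0, 16]),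 ([18, 8, 19], [32]), ([18, 32, 19], [32, 8]), ([18, 4, 19], [28]), ([18, 6, 19], [30]), ([18, 28, 19], [29, 5]), ([18, 30, 19], [31, 7]), ([18, 22, 19], [22]), ([18, 36, 19], [36]), ([24, 16, 25], [16]), ([24, 0, 25], [8, 0, 16]), ([24, 8, 25], [0]), ([24, 32, 25], [32, 8, 0]), ([24, 4, 25], [7, 4]), ([24, 6, 25], [5]), ([24, 28, 25], [5, 23, 36, 30, 22, 32]), ([24, 30, 25], [22, 36, 23, 29, 7, 32]), ([24, 22, 25], [22]), ([24, 36, 25], [29, 6])]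
noncomputable def xv3 : List (List ℕ × List ℕ) := []
noncomputable def xn_10 : List (ℕ × ℕ) := [(nat_lit 1, nat_lit 0x511510050), (nat_lit 2, nat_lit 0x30232032310), (nat_lit 4, nat_lit 0xc0d0e0f0100), (nat_lit 8, nat_lit 0x10008e0048), (nat_lit 16, nat_lit 0x80c0), (nat_lit 16, nat_lit 0xd0c30000), (nat_lit 16, nat_lit 0xe370), (nat_lit 8, nat_lit 0x5000820000), (nat_lit 4, nat_lit 0xc0d0e0f0100), (nat_lit 2, nat_lit 0x30131031220), (nat_lit 1, nat_lit 0x10044145000)]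
noncomputable def xn_11 : List (ℕ × ℕ) := [(nat_lit 1, nat_lit 0x45150554504), (nat_lit 2, nat_lit 0x21300221222), (nat_lit 4, nat_lit 0x80207010100), (nat_lit 8, nat_lit 0x2a00050000), (nat_lit 16, nat_lit 0x8000), (nat_lit 16, nat_lit 0xaa040000), (nat_lit 16, nat_lit 0xc5f0), (nat_lit 8, nat_lit 0x2a00050000), (nat_lit 4, nat_lit 0x80004010100), (nat_lit 2, nat_lit 0x20300001000), (nat_lit 1, nat_lit 0x5150554504)]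
noncomputable def xn_12 : List (ℕ × ℕ) := [(nat_lit 1, nat_lit 0x11451144500), (nat_lit 2, nat_lit 0x2311233120), (nat_lit 4, nat_lit 0xc02090100), (nat_lit 8, nat_lit 0x4900410058), (nat_lit 16, nat_lit 0x100), (nat_lit 16, nat_lit 0x49000000), (nat_lit 16, nat_lit 0x40e0), (nat_lit 8, nat_lit 0x4900010000), (nat_lit 4, nat_lit 0xc00030100), (nat_lit 2, nat_lit 0x2010100100), (nat_lit 1, nat_lit 0x1411144400)]
noncomputable def xn_13 : List (ℕ × ℕ) := [(nat_lit 1, nat_lit 0x40144100404), (nat_lit 2, nat_lit 0x10122233000), (nat_lit 4, nat_lit 0x8000e0c0400), (nat_lit 8, nat_lit 0x18006b004a), (nat_lit 16, nat_lit 0x8000), (nat_lit 16, nat_lit 0x98820000), (nat_lit 16, nat_lit 0xe050), (nat_lit 8, nat_lit 0x1800800000), (nat_lit 4, nat_lit 0x80306000000), (nat_lit 2, nat_lit 0x2000020000), (nat_lit 1, nat_lit 0x51015505550)]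
noncomputable def xn_14 : List (ℕ × ℕ) := [(nat_lit 1, nat_lit 0x140041051515), (nat_lit 2, nat_lit 0x213021110302), (nat_lit 4, nat_lit 0xa0607080904), (nat_lit 8, nat_lit 0x4400030080), (nat_lit 16, nat_lit 0x4), (nat_lit 16, nat_lit 0x40250000), (nat_lit 16, nat_lit 0x1ba0), (nat_lit 8, nat_lit 0x6000160000), (nat_lit 4, nat_lit 0x202000f0800), (nat_lit 2, nat_lit 0x211111010210), (nat_lit 1, nat_lit 0x104541544504)]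
noncomputable def xn : List (List (ℕ × ℕ)) := [[], [], [], [], [], [], [], [], [], [], xn_10, xn_11, xn_12, xn_13, xn_14]
noncomputable def xs : List (List ℕ) := [[0], [2], [4], [6], [8], [10], [12], [14], [16], [18], [20], [22], [24], [26]]
noncomputable def xst : List (ℕ × ℕ × ℕ) := [(2, 0, 0), (2, 1, 0), (2, 2, 0), (2, 3, 0), (2, 4, 0), (2, 5, 0), (2, 6, 0), (2, 7, 0), (2, 8, 0), (2, 9, 0), (2, 10, 0), (2, 11, 0), (2, 12, 0), (2, 13, 0), (0, 29, bit 0), (1, 0, 0), (1, 1, 0), (1, 2, 0), (1, 3, 0), (1, 4, 0), (1, 5, 0), (1, 6, 0), (1, 7, 0), (1, 8, 0), (1, 9, 0), (1, 10, 2), (1, 11, 0), (0, 29, bit 2), (1, 0, 0), (1, 1, 0), (1, 2, 0), (1, 3, 0), (1, 4, 0), (1, 5, 0), (1, 6, 0), (1, 7, 0), (1, 8, 0), (1, 9, 0), (1, 10, 2), (1, 11, 0), (1, 12, 0), (1, 13, 0), (1, 14, 0), (0, 27, bit 1), (1, 0, 0), (1, 1, 0), (1, 2, 0), (1,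 3, 0), (1, 4, 0), (1, 5, 0), (1, 6, 0), (1, 7, 0), (1, 8, 0), (1, 9, 0), (0, 29, bit 8), (1, 0, 0), (1, 1, 0), (1, 2, 0), (1, 3, 0), (1, 4, 0), (1, 5, 0), (1, 6, 0), (1, 7, 0), (1, 8, 0), (1, 9, 0), (0, 29, bit 18), (1, 0, 0), (1, 1, 0), (1, 2, 0), (1, 3, 0), (1, 4, 0), (1, 5, 0), (1, 6, 0), (1, 7, 0), (1, 8, 0), (1, 9, 0), (1, 12, 0), (0, 27, bit 2), (1, 0, 0), (1, 1, 0), (1, 2, 0), (1, 3, 0), (1, 4, 0), (1, 5, 0), (1, 6, 0), (1, 7, 0), (1, 8, 0), (1, 9, 0), (1, 15, 0), (1, 16, 1), (0, 29, bit 10), (1, 0, 0), (1, 1, 0), (1, 2, 0), (1, 3, 0), (1, 4, 0), (1, 5, 0), (1, 6, 0), (1, 7, 0), (1, 8, 0), (1, 9, 0), (1, 10, 2), (1, 13, 0), (1, 14, 0), (0, 29, bit 20), (1, 0, 0), (1, 1, 0), (1, 2, 0), (1, 3, 0), (1, 4, 0), (1, 5, 0), (1, 6, 0), (1, 7, 0), (1, 8, 0), (1, 9, 0), (1, 12, 0), (1, 13, 0), (0, 27, bit 7), (1, 0, 0), (1,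 1, 0), (1, 2, 0), (1, 3, 0), (1, 4, 0), (1, 5, 0), (1, 6, 0), (1, 7, 0), (1, 8, 0), (1, 9, 0), (0, 29, bit 6), (1, 0, 0), (1, 1, 0), (1, 2, 0), (1, 3, 0), (1, 4, 0), (1, 5, 0), (1, 6, 0), (1, 7, 0), (1, 8, 0), (1, 9, 0), (0, 29, bit 33), (1, 0, 0), (1, 1, 0), (1, 2, 0), (1, 3, 0), (1, 4, 0), (1, 5, 0), (1, 6, 0), (1, 7, 0), (1, 8, 0), (1, 9, 0), (1, 12, 0), (0, 27, bit 5), (1, 0, 0), (1, 1, 0), (1, 2, 0), (1, 3, 0), (1, 4, 0), (1, 5, 0), (1, 6, 0), (1, 7, 0), (1, 8, 0), (1, 9, 0), (0, 29, bit 4), (1, 0, 0), (1, 1, 0), (1, 2, 0), (1, 3, 0), (1, 4, 0), (1, 5, 0), (1, 6, 0), (1, 7, 0), (1, 8, 0), (1, 9, 0), (0, 29, bit 17), (1, 0, 0), (1, 1, 0), (1, 2, 0), (1, 3, 0), (1, 4, 0), (1, 5, 0), (1, 6, 0), (1, 7, 0), (1, 8, 0), (1, 9, 0), (1, 12, 0), (1, 21, 0), (1, 15, 2), (1, 13, 0), (1, 14, 0), (1, 17, 0), (1, 18, 0), (1, 10, 0),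 (1, 11, 0), (1, 11, 3), (1, 10, 0), (1, 10, 2), (1, 11, 0), (1, 10, 2), (0, 27, bit 4), (1, 0, 0), (1, 1, 0), (1, 2, 0), (1, 3, 0), (1, 4, 0), (1, 5, 0), (1, 6, 0), (1, 7, 0), (1, 8, 0), (1, 9, 0), (1, 17, 0), (0, 29, bit 21), (1, 0, 0), (1, 1, 0), (1, 2, 0), (1, 3, 0), (1, 4, 0), (1, 5, 0), (1, 6, 0), (1, 7, 0), (1, 8, 0), (1, 9, 0), (0, 29, bit 41), (1, 0, 0), (1, 1, 0), (1, 2, 0), (1, 3, 0), (1, 4, 0), (1, 5, 0), (1, 6, 0), (1, 7, 0), (1, 8, 0), (1, 9, 0), (1, 12, 0), (0, 27, bit 6), (1, 0, 0), (1, 1, 0), (1, 2, 0), (1, 3, 0), (1, 4, 0), (1, 5, 0), (1, 6, 0), (1, 7, 0), (1, 8, 0), (1, 9, 0), (1, 17, 0), (0, 29, bit 27), (1, 0, 0), (1, 1, 0), (1, 2, 0), (1, 3, 0), (1, 4, 0), (1, 5, 0), (1, 6, 0), (1, 7, 0), (1, 8, 0), (1, 9, 0), (0, 29, bit 14), (1, 0, 0), (1, 1, 0), (1, 2, 0), (1, 3, 0), (1, 4, 0), (1, 5, 0), (1, 6, 0),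 (1, 7, 0), (1, 8, 0), (1, 9, 0), (1, 12, 0), (0, 27, bit 8), (1, 0, 0), (1, 1, 0), (1, 2, 0), (1, 3, 0), (1, 4, 0), (1, 5, 0), (1, 6, 0), (1, 7, 0), (1, 8, 0), (1, 9, 0), (1, 15, 0), (1, 16, 1), (1, 16, 2), (1, 18, 0), (1, 11, 1), (0, 29, bit 9), (1, 0, 0), (1, 1, 0), (1, 2, 0), (1, 3, 0), (1, 4, 0), (1, 5, 0), (1, 6, 0), (1, 7, 0), (1, 8, 0), (1, 9, 0), (1, 10, 2), (1, 11, 0), (0, 29, bit 11), (1, 0, 0), (1, 1, 0), (1, 2, 0), (1, 3, 0), (1, 4, 0), (1, 5, 0), (1, 6, 0), (1, 7, 0), (1, 8, 0), (1, 9, 0), (1, 10, 2), (1, 11, 0), (1, 11, 2), (1, 13, 0), (1, 14, 0), (0, 27, bit 11), (1, 0, 0), (1, 1, 0), (1, 2, 0), (1, 3, 0), (1, 4, 0), (1, 5, 0), (1, 6, 0), (1, 7, 0), (1, 8, 0), (1, 9, 0), (1, 18, 0), (1, 19, 0), (1, 20, 3), (0, 29, bit 23), (1, 0, 0), (1, 1, 0), (1, 2, 0), (1, 3, 0), (1, 4, 0), (1, 5, 0), (1, 6, 0), (1, 7,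 0), (1, 8, 0), (1, 9, 0), (1, 13, 0), (1, 14, 0), (1, 15, 1), (0, 29, bit 22), (1, 0, 0), (1, 1, 0), (1, 2, 0), (1, 3, 0), (1, 4, 0), (1, 5, 0), (1, 6, 0), (1, 7, 0), (1, 8, 0), (1, 9, 0), (1, 12, 0), (1, 13, 0), (1, 10, 0), (0, 27, bit 14), (1, 0, 0), (1, 1, 0), (1, 2, 0), (1, 3, 0), (1, 4, 0), (1, 5, 0), (1, 6, 0), (1, 7, 0), (1, 8, 0), (1, 9, 0), (0, 29, bit 13), (1, 0, 0), (1, 1, 0), (1, 2, 0), (1, 3, 0), (1, 4, 0), (1, 5, 0), (1, 6, 0), (1, 7, 0), (1, 8, 0), (1, 9, 0), (0, 29, bit 26), (1, 0, 0), (1, 1, 0), (1, 2, 0), (1, 3, 0), (1, 4, 0), (1, 5, 0), (1, 6, 0), (1, 7, 0), (1, 8, 0), (1, 9, 0), (1, 12, 0), (0, 27, bit 13), (1, 0, 0), (1, 1, 0), (1, 2, 0), (1, 3, 0), (1, 4, 0), (1, 5, 0), (1, 6, 0), (1, 7, 0), (1, 8, 0), (1, 9, 0), (1, 17, 0), (0, 29, bit 42), (1, 0, 0), (1, 1, 0), (1, 2, 0), (1, 3, 0), (1, 4, 0), (1,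 5, 0), (1, 6, 0), (1, 7, 0), (1, 8, 0), (1, 9, 0), (0, 29, bit 44), (1, 0, 0), (1, 1, 0), (1, 2, 0), (1, 3, 0), (1, 4, 0), (1, 5, 0), (1, 6, 0), (1, 7, 0), (1, 8, 0), (1, 9, 0), (1, 12, 0), (0, 27, bit 15), (1, 0, 0), (1, 1, 0), (1, 2, 0), (1, 3, 0), (1, 4, 0), (1, 5, 0), (1, 6, 0), (1, 7, 0), (1, 8, 0), (1, 9, 0), (0, 29, bit 24), (1, 0, 0), (1, 1, 0), (1, 2, 0), (1, 3, 0), (1, 4, 0), (1, 5, 0), (1, 6, 0), (1, 7, 0), (1, 8, 0), (1, 9, 0), (0, 29, bit 29), (1, 0, 0), (1, 1, 0), (1, 2, 0), (1, 3, 0), (1, 4, 0), (1, 5, 0), (1, 6, 0), (1, 7, 0), (1, 8, 0), (1, 9, 0), (1, 12, 0), (0, 27, bit 17), (1, 0, 0), (1, 1, 0), (1, 2, 0), (1, 3, 0), (1, 4, 0), (1, 5, 0), (1, 6, 0), (1, 7, 0), (1, 8, 0), (1, 9, 0), (1, 15, 0), (1, 18, 0), (1, 19, 0), (1, 11, 3), (1, 19, 0), (1, 10, 0), (0, 29, bit 36), (1, 0, 0), (1, 1, 0), (1, 2, 0),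 (1, 3, 0), (1, 4, 0), (1, 5, 0), (1, 6, 0), (1, 7, 0), (1, 8, 0), (1, 9, 0), (1, 10, 2), (0, 29, bit 40), (1, 0, 0), (1, 1, 0), (1, 2, 0), (1, 3, 0), (1, 4, 0), (1, 5, 0), (1, 6, 0), (1, 7, 0), (1, 8, 0), (1, 9, 0), (1, 11, 0), (1, 12, 0), (1, 10, 0), (1, 22, 1), (1, 15, 1), (1, 16, 1), (1, 21, 0), (1, 17, 0), (1, 18, 0), (1, 18, 1), (1, 20, 0), (1, 10, 0), (1, 10, 2), (1, 11, 0), (1, 11, 1), (1, 11, 3), (1, 13, 0), (1, 14, 0), (1, 15, 0), (1, 15, 1), (1, 16, 2), (1, 16, 3), (1, 18, 0), (1, 18, 1), (1, 19, 0), (1, 20, 0), (1, 20, 1), (1, 20, 3), (1, 20, 4), (1, 10, 0), (1, 10, 2), (1, 11, 0), (1, 11, 1), (1, 13, 0), (1, 14, 0), (1, 21, 0), (1, 22, 1), (1, 16, 1), (1, 21, 0), (1, 17, 0), (1, 13, 0), (0, 27, bit 19), (1, 0, 0), (1, 1, 0), (1, 2, 0), (1, 3, 0), (1, 4, 0), (1, 5, 0), (1, 6, 0), (1, 7, 0), (1, 8, 0), (1, 9, 0),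 (1, 15, 0), (1, 16, 2), (1, 18, 0), (0, 29, bit 28), (1, 0, 0), (1, 1, 0), (1, 2, 0), (1, 3, 0), (1, 4, 0), (1, 5, 0), (1, 6, 0), (1, 7, 0), (1, 8, 0), (1, 9, 0), (1, 10, 2), (1, 11, 0), (1, 15, 1), (1, 16, 1), (1, 16, 2), (0, 29, bit 35), (1, 0, 0), (1, 1, 0), (1, 2, 0), (1, 3, 0), (1, 4, 0), (1, 5, 0), (1, 6, 0), (1, 7, 0), (1, 8, 0), (1, 9, 0), (1, 10, 2), (1, 11, 0), (1, 11, 2), (1, 13, 0), (1, 15, 1), (0, 27, bit 30), (1, 0, 0), (1, 1, 0), (1, 2, 0), (1, 3, 0), (1, 4, 0), (1, 5, 0), (1, 6, 0), (1, 7, 0), (1, 8, 0), (1, 9, 0), (1, 15, 0), (1, 17, 0), (1, 18, 0), (0, 29, bit 39), (1, 0, 0), (1, 1, 0), (1, 2, 0), (1, 3, 0), (1, 4, 0), (1, 5, 0), (1, 6, 0), (1, 7, 0), (1, 8, 0), (1, 9, 0), (1, 10, 2), (1, 11, 0), (1, 21, 0), (1, 17, 0), (1, 20, 1), (0, 29, bit 37), (1, 0, 0), (1, 1, 0), (1, 2, 0), (1, 3, 0), (1, 4, 0),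 (1, 5, 0), (1, 6, 0), (1, 7, 0), (1, 8, 0), (1, 9, 0), (1, 10, 2), (1, 11, 0), (1, 12, 0), (1, 13, 0), (1, 21, 0)]
noncomputable def xr : List (List ℕ) := [[0], [2], [4], [6], [8], [10], [12], [14], [16], [18], [20, 28, 24, 29], [20, 24, 29, 24, 28], [28, 28, 28], [22, 28, 22, 28], [22, 22], [20, 27, 22, 26], [20, 22, 27, 20, 26], [26, 26, 26], [24, 26, 24, 26], [24, 24], [20, 22, 26, 22, 27]]
noncomputable def xus : List (List ℕ) := [[26, 29], [20, 27, 29]]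
noncomputable def xv4 : List (List ℕ × List ℕ) := [([10, 24, 2, 25], []), ([10, 2, 25, 2, 24], []), ([24, 24, 24], []), ([34, 24, 34, 24], [23]), ([34, 34], []), ([10, 19, 34, 18], []), ([10, 34, 19, 10, 18], []), ([18, 18, 18], []), ([2, 18, 2, 18], []), ([2, 2], []), ([10, 34, 18, 34, 19], [])]
noncomputable def xv5 : List (List ℕ × List ℕ) := [([18, 25, 18, 25, 18, 25, 18, 25, 18, 25], [22]), ([10, 19, 25, 10, 19, 25, 10, 19, 25, 10, 19, 25, 10, 19, 25], [22])]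
noncomputable def xu : List ℕ := [18, 25]
noncomputable def xps : List ℕ := [2]
theorem xc8 : tcOK 6 48 N1.length xn (xr ++ xus.map (pwW · 5)) xs = true := by decide +kernel
theorem xc9 : (mkTc 6 48 N1.length xn 0 (xr ++ xus.map (pwW · 5)) xs []).run 45 xst (bit 0) 0 = true := by decide +kernel
theorem xc1 : cenOK 6 T 3317760 xls xws = true ∧ allL (fun l => inI A1 (nfW 6 l.b)) xls = true ∧ Bk.mapF (fpN nM ps) xws (fun l => decide l.Nodup) = true ∧ (8 ∈ A1 ∧ (∀ i ∈ A1, i ∈ N1) ∧ ∀ i ∈ A1, i ∈ S1) ∧ memsW (eqK eM [HX, LX]) (HI 6) (ltW A1) xv1 = true ∧ memsW (eqK eM [HX, LX]) A1 (cjW N1 A1) xv2 = true ∧ memsW (eqK eM [HX, LX]) A1 xws xv3 = true := by decide +kernel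
theorem xc10 : memsW (eqK eM [HX, LX]) A1 (xr.map (rl N1)) xv4 = true ∧ allL (fun u => an (inI N1 (rl N1 u)) (fpfN nM xps xws (rl N1 u))) xus = true ∧ memsW eM A1 (xus.map fun u => pwW (rl N1 u) 5) xv5 = true ∧ allL (inI S1) (xs.map (rl N1)) = true ∧ inI N1 xu = true ∧ fpfN nM xps xws (xu ++ xu) = true := by decide +kernel
noncomputable def lx : List Bk.Lv := [⟨2, 1536, 11, 2048, [[0, 5, 4, 5, 4, 2, 0], [2, 0, 3, 5, 4, 3, 2]]⟩, ⟨17, 720, 11, 2048, []⟩]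
theorem lx_ok : (tabB 11 1792).chainW ((tabB 11 1792).lk tM) (ltW [1, 5, 9, 11, 12, 18]) lx = true ∧ (lx.map Bk.Lv.a).prod = 1105920 := by decide +kernel
noncomputable def yls : List Bk.Lv := [⟨1, 54, 7, 128, [[2], [3], [7], [11]]⟩, ⟨32, 20, 7, 128, [[1], [2], [3], [0, 1, 1, 0, 0]]⟩, ⟨4, 24, 7, 128, [[1], [2], [0, 1, 3], [3, 0, 2, 3, 0]]⟩, ⟨8, 8, 7, 128, []⟩]
noncomputable def yws : List (List ℕ) := [[], [16], [0], [10], [34], [0, 16], [10, 16], [34, 16], [10, 0], [34, 0], [34, 10], [10, 0, 16], [34, 0, 16], [34, 10, 16], [34, 10, 0], [34, 10, 0, 16]]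
noncomputable def yv1 : List (List ℕ × List ℕ) := [([38], [26, 29, 6, 27])]
noncomputable def yv2 : List (List ℕ × List ℕ) := [([8, 16, 9], [16]), ([8, 0, 9], [0]), ([8, 10, 9], [10, 16]), ([8, 34, 9], [34, 0, 16]), ([8, 4, 9], [4]), ([8, 6, 9], [6]), ([8, 28, 9], [28]), ([8, 30, 9], [30]), ([8, 22, 9], [22]), ([8, 38, 9], [6, 38, 4]), ([32, 16, 33], [16]), ([32, 0, 33], [0]), ([32, 10, 33], [10, 0, 16]), ([32, 34, 33], [34, 0]), ([32, 4, 33], [4]), ([32, 6, 33], [6]), ([32, 28, 33], [28]), ([32, 30, 33], [30]), ([32, 22, 33], [22]), ([32, 38, 33], [30, 38, 28]), ([2, 16, 3], [16]), ([2, 0, 3], [0, 16]), ([2, 10, 3], [10]), ([2, 34, 3], [34, 10]), ([2, 4, 3], [4]), ([2, 6, 3], [6]), ([2, 28, 3], [29, 5]), ([2, 30, 3], [31, 7]), ([2, 22, 3], [22]), ([2, 38, 3], [38]), ([18, 16, 19], [0]), ([18, 0, 19], [0, 16]), ([18, 10,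 19], [34]), ([18, 34, 19], [34, 10]), ([18, 4, 19], [28]), ([18, 6, 19], [30]), ([18, 28, 19], [29, 5]), ([18, 30, 19], [31, 7]), ([18, 22, 19], [22]), ([18, 38, 19], [38]), ([26, 16, 27], [16]), ([26, 0, 27], [10, 16]), ([26, 10, 27], [10, 0]), ([26, 34, 27], [34]), ([26, 4, 27], [7, 4]), ([26, 6, 27], [5]), ([26, 28, 27], [5, 38]), ([26, 30, 27], [23, 38, 22, 7]), ([26, 22, 27], [22]), ([26, 38, 27], [38, 23, 29, 5, 38, 22])]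
noncomputable def yv3 : List (List ℕ × List ℕ) := []
noncomputable def yn_10 : List (ℕ × ℕ) := [(nat_lit 1, nat_lit 0x15055004010), (nat_lit 2, nat_lit 0x22200032310), (nat_lit 4, nat_lit 0x9020a080008), (nat_lit 8, nat_lit 0x2200d8), (nat_lit 16, nat_lit 0x1080), (nat_lit 16, nat_lit 0x10c00000), (nat_lit 16, nat_lit 0x7a70), (nat_lit 8, nat_lit 0x90001a0000), (nat_lit 4, nat_lit 0x9000c000800), (nat_lit 2, nat_lit 0x23233122200), (nat_lit 1, nat_lit 0x4000501000)]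
noncomputable def yn_11 : List (ℕ × ℕ) := [(nat_lit 1, nat_lit 0x54054400004), (nat_lit 2, nat_lit 0x123223112), (nat_lit 4, nat_lit 0x2050b010800), (nat_lit 8, nat_lit 0x2500800080), (nat_lit 16, nat_lit 0x5000000), (nat_lit 16, nat_lit 0x7070), (nat_lit 8, nat_lit 0x500000000), (nat_lit 4, nat_lit 0x2050e040800), (nat_lit 2, nat_lit 0x1012312000), (nat_lit 1, nat_lit 0x14054400004)]
noncomputable def yn_12 : List (ℕ × ℕ) := [(nat_lit 1, nat_lit 0x1414510), (nat_lit 2, nat_lit 0x1233133020), (nat_lit 4, nat_lit 0x30a090e0000), (nat_lit 8, nat_lit 0x1000060008), (nat_lit 16, nat_lit 0x40), (nat_lit 16, nat_lit 0x20480000), (nat_lit 16, nat_lit 0x54f0), (nat_lit 8, nat_lit 0x40000), (nat_lit 4, nat_lit 0x308040e0000), (nat_lit 2, nat_lit 0x1222100000), (nat_lit 1, nat_lit 0x1414410)]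
noncomputable def yn_13 : List (ℕ × ℕ) := [(nat_lit 1, nat_lit 0x55400004414), (nat_lit 2, nat_lit 0x30031003000), (nat_lit 4, nat_lit 0xb03090400), (nat_lit 8, nat_lit 0xdc005f000a), (nat_lit 16, nat_lit 0xd000), (nat_lit 16, nat_lit 0xd0020000), (nat_lit 16, nat_lit 0xc060), (nat_lit 8, nat_lit 0xd200400000), (nat_lit 4, nat_lit 0xa02000000), (nat_lit 2, nat_lit 0x111101000), (nat_lit 1, nat_lit 0x4441014540)]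
noncomputable def yn_14 : List (ℕ × ℕ) := [(nat_lit 1, nat_lit 0x40101155545), (nat_lit 2, nat_lit 0x120313031332), (nat_lit 4, nat_lit 0xd020f010004), (nat_lit 8, nat_lit 0x8b0010), (nat_lit 16, nat_lit 0x20), (nat_lit 16, nat_lit 0x90620000), (nat_lit 16, nat_lit 0x4b34), (nat_lit 8, nat_lit 0x80005b0000), (nat_lit 4, nat_lit 0x90201020100), (nat_lit 2, nat_lit 0x121230110010), (nat_lit 1, nat_lit 0x11051510444)]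
noncomputable def yn : List (List (ℕ × ℕ)) := [[], [], [], [], [], [], [], [], [], [], yn_10, yn_11, yn_12, yn_13, yn_14]
noncomputable def ys : List (List ℕ) := [[0], [2], [4], [6], [8], [10], [12], [14], [16], [18], [20], [22], [24], [26]]
noncomputable def yst : List (ℕ × ℕ × ℕ) := [(2, 0, 0), (2, 1, 0), (2, 2, 0), (2, 3, 0), (2, 4, 0), (2, 5, 0), (2, 6, 0), (2, 7, 0), (2, 8, 0), (2, 9, 0), (2, 10, 0), (2, 11, 0), (2, 12, 0), (2, 13, 0), (0, 29, bit 0), (1, 0, 0), (1, 1, 0), (1, 2, 0), (1, 3, 0), (1, 4, 0), (1, 5, 0), (1, 6, 0), (1, 7, 0), (1, 8, 0), (1, 9, 0), (1, 10, 0), (1, 11, 1), (0, 29, bit 2), (1, 0, 0), (1, 1, 0), (1, 2, 0), (1, 3, 0), (1, 4, 0), (1, 5, 0), (1, 6, 0), (1, 7, 0), (1, 8, 0), (1, 9, 0), (1, 10, 0), (1, 11, 1), (1, 12, 0), (1, 13, 0), (1, 14, 0), (0, 26, bit 1), (1, 0, 0), (1, 1, 0), (1, 2, 0), (1,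 3, 0), (1, 4, 0), (1, 5, 0), (1, 6, 0), (1, 7, 0), (1, 8, 0), (1, 9, 0), (1, 15, 2), (0, 29, bit 9), (1, 0, 0), (1, 1, 0), (1, 2, 0), (1, 3, 0), (1, 4, 0), (1, 5, 0), (1, 6, 0), (1, 7, 0), (1, 8, 0), (1, 9, 0), (0, 29, bit 11), (1, 0, 0), (1, 1, 0), (1, 2, 0), (1, 3, 0), (1, 4, 0), (1, 5, 0), (1, 6, 0), (1, 7, 0), (1, 8, 0), (1, 9, 0), (1, 12, 0), (0, 26, bit 2), (1, 0, 0), (1, 1, 0), (1, 2, 0), (1, 3, 0), (1, 4, 0), (1, 5, 0), (1, 6, 0), (1, 7, 0), (1, 8, 0), (1, 9, 0), (1, 15, 2), (1, 16, 3), (0, 29, bit 3), (1, 0, 0), (1, 1, 0), (1, 2, 0), (1, 3, 0), (1, 4, 0), (1, 5, 0), (1, 6, 0), (1, 7, 0), (1, 8, 0), (1, 9, 0), (0, 29, bit 4), (1, 0, 0), (1, 1, 0), (1, 2, 0), (1, 3, 0), (1, 4, 0), (1, 5, 0), (1, 6, 0), (1, 7, 0), (1, 8, 0), (1, 9, 0), (1, 12, 0), (1, 10, 2), (0, 26, bit 3), (1, 0, 0), (1, 1, 0), (1, 2, 0), (1, 3,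 0), (1, 4, 0), (1, 5, 0), (1, 6, 0), (1, 7, 0), (1, 8, 0), (1, 9, 0), (1, 17, 0), (1, 18, 0), (1, 19, 0), (0, 29, bit 10), (1, 0, 0), (1, 1, 0), (1, 2, 0), (1, 3, 0), (1, 4, 0), (1, 5, 0), (1, 6, 0), (1, 7, 0), (1, 8, 0), (1, 9, 0), (1, 10, 0), (1, 11, 1), (1, 13, 0), (1, 14, 0), (1, 19, 0), (0, 29, bit 20), (1, 0, 0), (1, 1, 0), (1, 2, 0), (1, 3, 0), (1, 4, 0), (1, 5, 0), (1, 6, 0), (1, 7, 0), (1, 8, 0), (1, 9, 0), (1, 10, 0), (1, 11, 2), (1, 13, 3), (0, 26, bit 4), (1, 0, 0), (1, 1, 0), (1, 2, 0), (1, 3, 0), (1, 4, 0), (1, 5, 0), (1, 6, 0), (1, 7, 0), (1, 8, 0), (1, 9, 0), (0, 29, bit 5), (1, 0, 0), (1, 1, 0), (1, 2, 0), (1, 3, 0), (1, 4, 0), (1, 5, 0), (1, 6, 0), (1, 7, 0), (1, 8, 0), (1, 9, 0), (0, 29, bit 6), (1, 0, 0), (1, 1, 0), (1, 2, 0), (1, 3, 0), (1, 4, 0), (1, 5, 0), (1, 6, 0), (1, 7, 0), (1, 8, 0), (1, 9, 0),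 (1, 12, 0), (0, 26, bit 5), (1, 0, 0), (1, 1, 0), (1, 2, 0), (1, 3, 0), (1, 4, 0), (1, 5, 0), (1, 6, 0), (1, 7, 0), (1, 8, 0), (1, 9, 0), (1, 17, 0), (0, 29, bit 21), (1, 0, 0), (1, 1, 0), (1, 2, 0), (1, 3, 0), (1, 4, 0), (1, 5, 0), (1, 6, 0), (1, 7, 0), (1, 8, 0), (1, 9, 0), (0, 29, bit 12), (1, 0, 0), (1, 1, 0), (1, 2, 0), (1, 3, 0), (1, 4, 0), (1, 5, 0), (1, 6, 0), (1, 7, 0), (1, 8, 0), (1, 9, 0), (1, 12, 0), (0, 26, bit 6), (1, 0, 0), (1, 1, 0), (1, 2, 0), (1, 3, 0), (1, 4, 0), (1, 5, 0), (1, 6, 0), (1, 7, 0), (1, 8, 0), (1, 9, 0), (0, 29, bit 7), (1, 0, 0), (1, 1, 0), (1, 2, 0), (1, 3, 0), (1, 4, 0), (1, 5, 0), (1, 6, 0), (1, 7, 0), (1, 8, 0), (1, 9, 0), (1, 20, 0), (1, 15, 0), (1, 16, 1), (1, 16, 2), (1, 18, 0), (1, 19, 0), (1, 10, 2), (1, 11, 0), (1, 11, 3), (1, 13, 0), (0, 29, bit 8), (1, 0, 0), (1, 1, 0), (1, 2,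 0), (1, 3, 0), (1, 4, 0), (1, 5, 0), (1, 6, 0), (1, 7, 0), (1, 8, 0), (1, 9, 0), (1, 10, 0), (1, 11, 1), (1, 11, 2), (1, 13, 0), (0, 26, bit 7), (1, 0, 0), (1, 1, 0), (1, 2, 0), (1, 3, 0), (1, 4, 0), (1, 5, 0), (1, 6, 0), (1, 7, 0), (1, 8, 0), (1, 9, 0), (1, 17, 0), (0, 29, bit 28), (1, 0, 0), (1, 1, 0), (1, 2, 0), (1, 3, 0), (1, 4, 0), (1, 5, 0), (1, 6, 0), (1, 7, 0), (1, 8, 0), (1, 9, 0), (0, 29, bit 26), (1, 0, 0), (1, 1, 0), (1, 2, 0), (1, 3, 0), (1, 4, 0), (1, 5, 0), (1, 6, 0), (1, 7, 0), (1, 8, 0), (1, 9, 0), (1, 12, 0), (0, 26, bit 12), (1, 0, 0), (1, 1, 0), (1, 2, 0), (1, 3, 0), (1, 4, 0), (1, 5, 0), (1, 6, 0), (1, 7, 0), (1, 8, 0), (1, 9, 0), (0, 29, bit 39), (1, 0, 0), (1, 1, 0), (1, 2, 0), (1, 3, 0), (1, 4, 0), (1, 5, 0), (1, 6, 0), (1, 7, 0), (1, 8, 0), (1, 9, 0), (0, 29, bit 40), (1, 0, 0), (1, 1, 0), (1, 2,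 0), (1, 3, 0), (1, 4, 0), (1, 5, 0), (1, 6, 0), (1, 7, 0), (1, 8, 0), (1, 9, 0), (1, 12, 0), (0, 26, bit 13), (1, 0, 0), (1, 1, 0), (1, 2, 0), (1, 3, 0), (1, 4, 0), (1, 5, 0), (1, 6, 0), (1, 7, 0), (1, 8, 0), (1, 9, 0), (0, 29, bit 14), (1, 0, 0), (1, 1, 0), (1, 2, 0), (1, 3, 0), (1, 4, 0), (1, 5, 0), (1, 6, 0), (1, 7, 0), (1, 8, 0), (1, 9, 0), (0, 29, bit 15), (1, 0, 0), (1, 1, 0), (1, 2, 0), (1, 3, 0), (1, 4, 0), (1, 5, 0), (1, 6, 0), (1, 7, 0), (1, 8, 0), (1, 9, 0), (1, 12, 0), (0, 26, bit 14), (1, 0, 0), (1, 1, 0), (1, 2, 0), (1, 3, 0), (1, 4, 0), (1, 5, 0), (1, 6, 0), (1, 7, 0), (1, 8, 0), (1, 9, 0), (1, 17, 0), (0, 29, bit 34), (1, 0, 0), (1, 1, 0), (1, 2, 0), (1, 3, 0), (1, 4, 0), (1, 5, 0), (1, 6, 0), (1, 7, 0), (1, 8, 0), (1, 9, 0), (0, 29, bit 32), (1, 0, 0), (1, 1, 0), (1, 2, 0), (1, 3, 0), (1, 4, 0), (1, 5, 0),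 (1, 6, 0), (1, 7, 0), (1, 8, 0), (1, 9, 0), (1, 12, 0), (0, 26, bit 16), (1, 0, 0), (1, 1, 0), (1, 2, 0), (1, 3, 0), (1, 4, 0), (1, 5, 0), (1, 6, 0), (1, 7, 0), (1, 8, 0), (1, 9, 0), (1, 18, 0), (1, 19, 0), (0, 29, bit 36), (1, 0, 0), (1, 1, 0), (1, 2, 0), (1, 3, 0), (1, 4, 0), (1, 5, 0), (1, 6, 0), (1, 7, 0), (1, 8, 0), (1, 9, 0), (1, 10, 0), (0, 29, bit 38), (1, 0, 0), (1, 1, 0), (1, 2, 0), (1, 3, 0), (1, 4, 0), (1, 5, 0), (1, 6, 0), (1, 7, 0), (1, 8, 0), (1, 9, 0), (1, 12, 0), (0, 26, bit 17), (1, 0, 0), (1, 1, 0), (1, 2, 0), (1, 3, 0), (1, 4, 0), (1, 5, 0), (1, 6, 0), (1, 7, 0), (1, 8, 0), (1, 9, 0), (1, 15, 2), (1, 21, 0), (1, 16, 2), (1, 16, 3), (1, 17, 0), (1, 20, 0), (1, 10, 2), (1, 11, 0), (1, 15, 0), (1, 17, 0), (1, 18, 0), (1, 18, 1), (1, 19, 0), (1, 10, 0), (1, 10, 2), (1, 11, 0), (1, 11, 1), (1, 13, 3), (1,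 14, 0), (1, 15, 3), (1, 16, 1), (1, 16, 2), (1, 16, 4), (1, 17, 0), (1, 18, 0), (1, 19, 0), (1, 20, 0), (1, 10, 0), (1, 13, 0), (1, 13, 3), (1, 14, 0), (1, 13, 0), (1, 15, 0), (1, 10, 2), (1, 11, 0), (1, 11, 1), (1, 22, 1), (1, 16, 1), (1, 21, 1), (1, 13, 0), (0, 29, bit 30), (1, 0, 0), (1, 1, 0), (1, 2, 0), (1, 3, 0), (1, 4, 0), (1, 5, 0), (1, 6, 0), (1, 7, 0), (1, 8, 0), (1, 9, 0), (1, 10, 0), (1, 11, 1), (1, 13, 0), (1, 14, 0), (1, 15, 1), (0, 29, bit 31), (1, 0, 0), (1, 1, 0), (1, 2, 0), (1, 3, 0), (1, 4, 0), (1, 5, 0), (1, 6, 0), (1, 7, 0), (1, 8, 0), (1, 9, 0), (1, 10, 0), (1, 11, 1), (1, 11, 2), (1, 13, 0), (1, 15, 1), (0, 26, bit 18), (1, 0, 0), (1, 1, 0), (1, 2, 0), (1, 3, 0), (1, 4, 0), (1, 5, 0), (1, 6, 0), (1, 7, 0), (1, 8, 0), (1, 9, 0), (1, 15, 2), (1, 16, 0), (1, 16, 3), (1, 17, 0), (1, 18, 0), (0, 29, bit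 24), (1, 0, 0), (1, 1, 0), (1, 2, 0), (1, 3, 0), (1, 4, 0), (1, 5, 0), (1, 6, 0), (1, 7, 0), (1, 8, 0), (1, 9, 0), (1, 10, 0), (1, 11, 1), (1, 13, 0), (1, 14, 0), (1, 15, 1), (0, 29, bit 22), (1, 0, 0), (1, 1, 0), (1, 2, 0), (1, 3, 0), (1, 4, 0), (1, 5, 0), (1, 6, 0), (1, 7, 0), (1, 8, 0), (1, 9, 0), (1, 10, 0), (1, 11, 1), (1, 11, 2), (1, 13, 0), (1, 15, 1), (0, 26, bit 37), (1, 0, 0), (1, 1, 0), (1, 2, 0), (1, 3, 0), (1, 4, 0), (1, 5, 0), (1, 6, 0), (1, 7, 0), (1, 8, 0), (1, 9, 0), (1, 16, 3), (1, 17, 0), (1, 18, 0), (0, 29, bit 42), (1, 0, 0), (1, 1, 0), (1, 2, 0), (1, 3, 0), (1, 4, 0), (1, 5, 0), (1, 6, 0), (1, 7, 0), (1, 8, 0), (1, 9, 0), (1, 10, 0), (1, 11, 1), (1, 20, 0), (1, 21, 1), (1, 15, 2), (0, 29, bit 43), (1, 0, 0), (1, 1, 0), (1, 2, 0), (1, 3, 0), (1, 4, 0), (1, 5, 0), (1, 6, 0), (1, 7, 0), (1, 8, 0), (1,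 9, 0), (1, 10, 0), (1, 11, 1), (1, 12, 0), (1, 13, 0), (1, 20, 0)]
noncomputable def yr : List (List ℕ) := [[0], [2], [4], [6], [8], [10], [12], [14], [16], [18], [20, 29, 24, 28], [20, 24, 29, 20, 28], [28, 28, 28], [22, 24, 29, 22, 29], [22, 22], [20, 27, 22, 26], [20, 22, 27, 20, 26], [26, 26, 26], [24, 26, 24, 26], [24, 24]]
noncomputable def yus : List (List ℕ) := [[26, 29], [20, 26, 28], [24, 27, 28]]
noncomputable def yv4 : List (List ℕ × List ℕ) := [([8, 27, 2, 26], [16]), ([8, 2, 27, 8, 26], [16]), ([26, 26, 26], []), ([32, 2, 27, 32, 27], [22, 16]), ([32, 32], []), ([8, 19, 32, 18], []), ([8, 32, 19, 8, 18], []), ([18, 18, 18], []), ([2, 18, 2, 18], []), ([2, 2], [])]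
noncomputable def yv5 : List (List ℕ × List ℕ) := [([18, 27, 18, 27, 18, 27, 18, 27, 18, 27], [22]), ([8, 18, 26, 8, 18, 26, 8, 18, 26, 8, 18, 26, 8, 18, 26], [23]), ([2, 19, 26, 2, 19, 26, 2, 19, 26, 2, 19, 26, 2, 19, 26], [23])]
noncomputable def yu : List ℕ := [18, 27]
noncomputable def yps : List ℕ := [2]
theorem yc8 : tcOK 6 48 N2.length yn (yr ++ yus.map (pwW · 5)) ys = true := by decide +kernel
theorem yc9 : (mkTc 6 48 N2.length yn 0 (yr ++ yus.map (pwW · 5)) ys []).run 45 yst (bit 0) 0 = true := by decide +kernel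
theorem yc1 : cenOK 6 T 3317760 yls yws = true ∧ allL (fun l => inI A2 (nfW 6 l.b)) yls = true ∧ Bk.mapF (fpN nM ps) yws (fun l => decide l.Nodup) = true ∧ (8 ∈ A2 ∧ (∀ i ∈ A2, i ∈ N2) ∧ ∀ i ∈ A2, i ∈ S2) ∧ memsW (eqK eM [HX, LX]) (HI 6) (ltW A2) yv1 = true ∧ memsW (eqK eM [HX, LX]) A2 (cjW N2 A2) yv2 = true ∧ memsW (eqK eM [HX, LX]) A2 yws yv3 = true := by decide +kernel
theorem yc10 : memsW (eqK eM [HX, LX]) A2 (yr.map (rl N2)) yv4 = true ∧ allL (fun u => an (inI N2 (rl N2 u)) (fpfN nM yps yws (rl N2 u))) yus = true ∧ memsW eM A2 (yus.map fun u => pwW (rl N2 u) 5) yv5 = true ∧ allL (inI S2) (ys.map (rl N2)) = true ∧ inI N2 yu = true ∧ fpfN nM yps yws (yu ++ yu) = true := by decide +kernel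
noncomputable def ly : List Bk.Lv := [⟨2, 1536, 11, 2048, [[0, 3, 3, 5, 3], [4, 4, 2, 2, 3, 1, 2], [4, 1, 4, 5, 4, 3, 2]]⟩, ⟨108, 720, 11, 2048, []⟩]
theorem ly_ok : (tabB 11 1792).chainW ((tabB 11 1792).lk tM) (ltW [1, 4, 9, 11, 13, 19]) ly = true ∧ (ly.map Bk.Lv.a).prod = 1105920 := by decide +kernel
noncomputable def tmn_10 : List (ℕ × ℕ) := [(nat_lit 1, nat_lit 0x1450), (nat_lit 2, nat_lit 0x3130), (nat_lit 4, nat_lit 0xa08), (nat_lit 8, nat_lit 0x20), (nat_lit 4, nat_lit 0x200), (nat_lit 2, nat_lit 0x2020), (nat_lit 1, nat_lit 0x1450)]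
noncomputable def tmn_11 : List (ℕ × ℕ) := [(nat_lit 1, nat_lit 0x5104), (nat_lit 2, nat_lit 0x22), (nat_lit 4, nat_lit 0xf00), (nat_lit 8, nat_lit 0x40), (nat_lit 4, nat_lit 0x400), (nat_lit 1, nat_lit 0x4004)]
noncomputable def tmn_12 : List (ℕ × ℕ) := [(nat_lit 1, nat_lit 0x5140), (nat_lit 2, nat_lit 0x3230), (nat_lit 4, nat_lit 0x608), (nat_lit 8, nat_lit 0x20), (nat_lit 4, nat_lit 0x200), (nat_lit 2, nat_lit 0x1220), (nat_lit 1, nat_lit 0x5040)]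
noncomputable def tmn_13 : List (ℕ × ℕ) := [(nat_lit 1, nat_lit 0x5040), (nat_lit 2, nat_lit 0x1232), (nat_lit 4, nat_lit 0x40c), (nat_lit 8, nat_lit 0x20), (nat_lit 4, nat_lit 0x200), (nat_lit 2, nat_lit 0x3220), (nat_lit 1, nat_lit 0x4440)]
noncomputable def tmn_14 : List (ℕ × ℕ) := [(nat_lit 1, nat_lit 0x5005), (nat_lit 2, nat_lit 0x2022), (nat_lit 4, nat_lit 0xf04), (nat_lit 8, nat_lit 0xf0), (nat_lit 4, nat_lit 0x400), (nat_lit 1, nat_lit 0x5004)]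
noncomputable def tmn : List (List (ℕ × ℕ)) := [[], [], [], [], [], [], [], [], [], [], tmn_10, tmn_11, tmn_12, tmn_13, tmn_14]
noncomputable def tms : List (List ℕ) := [[0], [2], [4], [6], [8], [10], [12], [14], [16], [18], [20], [22], [24], [26]]
noncomputable def tmst : List (ℕ × ℕ × ℕ) := [(2, 0, 0), (2, 1, 0), (2, 2, 0), (2, 3, 0), (2, 4, 0), (2, 5, 0), (2, 6, 0), (2, 7, 0), (2, 8, 0), (2, 9, 0), (2, 10, 0), (2, 11, 0), (2, 12, 0), (2, 13, 0), (0, 28, bit 0), (1, 0, 0), (1, 1, 0), (1, 2, 0), (1, 3, 0), (1, 4, 0), (1, 5, 0), (1, 6, 0), (1, 7, 0), (1, 8, 0), (1, 9, 0), (1, 10, 0), (1, 11, 3), (0, 28, bit 1), (1, 0, 0), (1, 1, 0), (1, 2, 0), (1, 3, 0), (1, 4, 0), (1, 5, 0), (1, 6, 0), (1, 7, 0), (1, 8, 0), (1, 9, 0), (1, 10, 0), (1, 11, 3), (1, 12, 0), (1, 13, 0), (1, 14, 0), (0, 27, bit 1), (1, 0, 0), (1, 1, 0), (1, 2,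 0), (1, 3, 0), (1, 4, 0), (1, 5, 0), (1, 6, 0), (1, 7, 0), (1, 8, 0), (1, 9, 0), (0, 28, bit 5), (1, 0, 0), (1, 1, 0), (1, 2, 0), (1, 3, 0), (1, 4, 0), (1, 5, 0), (1, 6, 0), (1, 7, 0), (1, 8, 0), (1, 9, 0), (1, 15, 5), (0, 28, bit 9), (1, 0, 0), (1, 1, 0), (1, 2, 0), (1, 3, 0), (1, 4, 0), (1, 5, 0), (1, 6, 0), (1, 7, 0), (1, 8, 0), (1, 9, 0), (1, 12, 0), (0, 22, bit 5), (1, 0, 0), (1, 1, 0), (1, 2, 0), (1, 3, 0), (1, 4, 0), (1, 5, 0), (1, 6, 0), (1, 7, 0), (1, 8, 0), (1, 9, 0), (1, 14, 0), (1, 16, 0), (1, 17, 0), (1, 18, 1), (0, 28, bit 7), (1, 0, 0), (1, 1, 0), (1, 2, 0), (1, 3, 0), (1, 4, 0), (1, 5, 0), (1, 6, 0), (1, 7, 0), (1, 8, 0), (1, 9, 0), (1, 13, 0), (1, 14, 0), (1, 15, 3), (0, 28, bit 11), (1, 0, 0), (1, 1, 0), (1, 2, 0), (1, 3, 0), (1, 4, 0), (1, 5, 0), (1, 6, 0), (1, 7, 0), (1, 8, 0), (1, 9, 0), (1, 12, 0),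 (1, 13, 0), (1, 10, 2), (0, 20, bit 9), (1, 0, 0), (1, 1, 0), (1, 2, 0), (1, 3, 0), (1, 4, 0), (1, 5, 0), (1, 6, 0), (1, 7, 0), (1, 8, 0), (1, 9, 0), (1, 17, 0), (1, 18, 1), (1, 11, 1), (1, 19, 0), (0, 28, bit 6), (1, 0, 0), (1, 1, 0), (1, 2, 0), (1, 3, 0), (1, 4, 0), (1, 5, 0), (1, 6, 0), (1, 7, 0), (1, 8, 0), (1, 9, 0), (1, 10, 0), (1, 16, 2), (1, 16, 4), (1, 18, 2), (0, 28, bit 10), (1, 0, 0), (1, 1, 0), (1, 2, 0), (1, 3, 0), (1, 4, 0), (1, 5, 0), (1, 6, 0), (1, 7, 0), (1, 8, 0), (1, 9, 0), (1, 11, 3), (1, 12, 0), (1, 13, 0), (1, 15, 7), (1, 19, 0), (1, 20, 0), (0, 20, bit 3), (1, 0, 0), (1, 1, 0), (1, 2, 0), (1, 3, 0), (1, 4, 0), (1, 5, 0), (1, 6, 0), (1, 7, 0), (1, 8, 0), (1, 9, 0), (1, 16, 2), (1, 16, 3), (1, 16, 4), (1, 18, 2), (1, 11, 1), (1, 19, 0), (0, 28, bit 4), (1, 0, 0), (1, 1, 0), (1, 2, 0), (1, 3, 0), (1,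 4, 0), (1, 5, 0), (1, 6, 0), (1, 7, 0), (1, 8, 0), (1, 9, 0), (1, 10, 0), (1, 11, 1), (1, 11, 3), (1, 15, 5), (0, 28, bit 8), (1, 0, 0), (1, 1, 0), (1, 2, 0), (1, 3, 0), (1, 4, 0), (1, 5, 0), (1, 6, 0), (1, 7, 0), (1, 8, 0), (1, 9, 0), (1, 10, 0), (1, 11, 1), (1, 11, 3), (1, 11, 4), (1, 13, 0), (1, 14, 0), (1, 15, 1)]
noncomputable def tmr : List (List ℕ) := [[0], [2], [4], [6], [8], [10], [12], [14], [16], [18], [20, 28, 24, 29], [20, 24, 29, 24, 28], [28, 28, 28], [22, 28, 22, 28], [22, 22], [20, 26, 29, 26, 29, 27, 28, 27, 28], [20, 22, 27, 20, 26], [20, 20], [20, 27, 22, 26], [24, 24], [26, 26, 26]]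
noncomputable def tmv : List (List ℕ × List ℕ) := [([10, 16, 11], [16]), ([10, 0, 11], [0]), ([10, 8, 11], [8, 16]), ([10, 32, 11], [32, 0, 16]), ([10, 4, 11], [4]), ([10, 6, 11], [6]), ([10, 28, 11], [28]), ([10, 30, 11], [30]), ([10, 22, 11], [22]), ([10, 36, 11], [36, 6, 8]), ([34, 16, 35], [16]), ([34, 0, 35], [0]), ([34, 8, 35], [8, 0, 16]), ([34, 32, 35], [32, 0]), ([34, 4, 35], [4]), ([34, 6, 35], [6]), ([34, 28, 35], [28]), ([34, 30, 35], [30]), ([34, 22, 35], [22]), ([34, 36, 35], [36, 30, 32]), ([2, 16, 3], [16]), ([2, 0, 3], [0, 16]), ([2, 8, 3], [8]), ([2, 32, 3], [32, 8]), ([2, 4, 3], [4]), ([2, 6, 3], [6]), ([2, 28, 3], [29, 5]), ([2, 30, 3], [31, 7]), ([2, 22, 3], [22]), ([2, 36, 3], [36]), ([18, 16, 19], [0]), ([18, 0, 19], [0, 16]), ([18, 8, 19], [32]), ([18, 32, 19], [32, 8]), ([18, 4, 19], [28]), ([18,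 6, 19], [30]), ([18, 28, 19], [29, 5]), ([18, 30, 19], [31, 7]), ([18, 22, 19], [22]), ([18, 36, 19], [36]), ([24, 16, 25], [16]), ([24, 0, 25], [8, 0, 16]), ([24, 8, 25], [0]), ([24, 32, 25], [32, 8, 0]), ([24, 4, 25], [7, 4]), ([24, 6, 25], [5]), ([24, 28, 25], [5, 23, 36, 30, 22, 32]), ([24, 30, 25], [22, 36, 23, 29, 7, 32]), ([24, 22, 25], [22]), ([24, 36, 25], [29, 6]), ([10, 24, 2, 25], []), ([10, 2, 25, 2, 24], []), ([24, 24, 24], []), ([34, 24, 34, 24], [23]), ([34, 34], []), ([10, 18, 25, 18, 25, 19, 24, 19, 24], [23]), ([10, 34, 19, 10, 18], []), ([10, 10], []), ([10, 19, 34, 18], []), ([2, 2], []), ([18, 18, 18], [])]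
theorem tmc1 : tcOK 4 16 N1.length tmn tmr tms = true := by decide +kernel
theorem tmc2 : (mkTc 4 16 N1.length tmn 0 tmr tms []).run 15 tmst (bit 0) 0 = true := by decide +kernel
theorem tmc3 : tqOK (eqK eM [HX, LX, 22 :: N1, N2]) N1 A1 S1 tmr tms tmv = true := by decide +kernel
/-- the test for the letters of the centralizer -/
noncomputable def eY : EqT := eqB (eqK eM [HX, LX, 22 :: N1, N2]) (nth [] sY)
theorem Y_c : allN (fun i => eY [2 * i, 32] [32, 2 * i]) sY.length = true := by decide +kernel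
theorem Y_lb : lbW 4 0 (eqY eY) = true ∧ eqY eY [20] [] = true ∧ eqY eY [22] [] = true := by decide +kernel
theorem Y_rel : allL (fun w => eqY eY w []) U.RU = true := by decide +kernel
theorem Y_cr : eY (U.gw ++ [16] ++ invW U.gw) U.vw = true ∧ eqY eY (U.vw ++ [26] ++ invW U.vw) [27] = true ∧ eY [16, 26] [26, 16] = true ∧ eqB eM (nth [] sY) U.cr [] = true ∧ eY (U.gw ++ [24] ++ invW U.gw ++ [25]) [33] = true ∧ eY (pwW [32] 3) [] = true ∧ (eqK eM [HX, LX, 22 :: N1, N2]) [40, 22, 41] [23] = true ∧ eqK dM [HX] [22] [] = true := by decide +kernel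

end CA.CoT.S
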