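import Cfsg.Agent.Lib.CoT.Sza

/-! Generated data and checks. -/

set_option autoImplicit false
set_option maxRecDepth 100000

namespace CA.CoT.S
open CA.Fi CA.CoT

noncomputable def u1 : List Bk.Lv := [⟨0, 2, 11, 2048, []⟩]
theorem u1_ok : (tabB 11 1792).chainW ((tabB 11 1792).lk tM) (ltW (1 :: P1)) u1 = true ∧ (u1.map Bk.Lv.a).prod = 2 := by decide +kernel
noncomputable def u2 : List Bk.Lv := [⟨0, 6, 11, 2048, []⟩]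
theorem u2_ok : (tabB 11 1792).chainW ((tabB 11 1792).lk tM) (ltW (1 :: 12 :: P2)) u2 = true ∧ (u2.map Bk.Lv.a).prod = 6 := by decide +kernel
noncomputable def u3 : List Bk.Lv := [⟨0, 162, 11, 2048, []⟩]
theorem u3_ok : (tabB 11 1792).chainW ((tabB 11 1792).lk tM) (ltW (1 :: 12 :: X3)) u3 = true ∧ (u3.map Bk.Lv.a).prod = 162 := by decide +kernel
theorem u1_f : allL (fun l => allL (fun j => Nat.beq (fld 11 ((tabB 11 1792).lk tM (2 * j)) l.b) l.b) P1) u1 = true ∧ allL (fun l => Nat.blt l.b 1792) u1 = true := by decide +kernel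
theorem u2_f : allL (fun l => allL (fun j => Nat.beq (fld 11 ((tabB 11 1792).lk tM (2 * j)) l.b) l.b) P2) u2 = true ∧ allL (fun l => Nat.blt l.b 1792) u2 = true := by decide +kernel
theorem u3_f : allL (fun l => allL (fun j => Nat.beq (fld 11 ((tabB 11 1792).lk tM (2 * j)) l.b) l.b) X3) u3 = true ∧ allL (fun l => Nat.blt l.b 1792) u3 = true := by decide +kernel
noncomputable def tgs : List (List ℕ) := [[0], [2], [4], [6], [8], [10], [12]]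
noncomputable def tgt : List (ℕ × ℕ × ℕ) := [(2, 0, 0), (2, 1, 0), (2, 2, 0), (2, 3, 0), (2, 4, 0), (2, 5, 0), (2, 6, 0), (3, 0, 0), (3, 1, 0), (3, 2, 0), (3, 3, 0), (3, 4, 0), (3, 5, 0), (3, 6, 0)]
noncomputable def tgo : List (Orb × List Bk.Lv) := [(⟨[0, 2, 3, 4, 5, 7], 1, [[0], [4], [8], [10]], [], [], [14, 8, 0, 0], 5⟩, [⟨2, 1024, 11, 2048, [[3, 1, 2, 3, 2, 1, 3], [3, 1, 3, 2, 3, 1, 0, 2, 3, 2, 1]]⟩, ⟨16, 36, 11, 2048, []⟩]),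
  (⟨[0, 1, 2, 3, 4, 5, 6], 360, [[4], [10], [0, 8, 0]], [], [0, 8], [0, 2, 8, 12, 2], 20⟩, [⟨2, 768, 11, 2048, [[0, 2, 2, 1, 2, 0], [2, 2, 1, 2, 2, 1, 2, 1, 2]]⟩, ⟨16, 12, 11, 2048, []⟩]),
  (⟨[0, 2, 3, 4, 5, 7], 26, [[4], [0, 6], [0, 11, 8, 10]], [], [0, 6, 10, 4, 4], [0, 6, 10, 14, 4, 8, 0, 8, 4], 80⟩, [⟨2, 768, 11, 2048, [[2, 2, 0, 2]]⟩, ⟨15, 3, 11, 2048, []⟩]),
  (⟨[0, 1, 2, 3, 4, 5, 6], 109, [[4, 10], [9, 1, 4, 8, 6, 4]], [], [0, 4, 8, 10, 6, 0, 0, 8], [0, 2, 4, 8, 12, 10, 0, 8, 6, 2, 8, 0], 320⟩, [⟨2, 192, 11, 2048, [[1, 1, 0, 1]]⟩, ⟨6, 3, 11, 2048, []⟩]),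
  (⟨[0, 2, 3, 4, 5, 7], 17, [[4], [0, 8, 1], [0, 11, 9, 1, 7, 4, 4, 10, 8, 5, 10, 0]], [], [0, 6, 10, 8, 0, 6, 4, 10, 8, 0, 4, 0], [0, 6, 10, 14, 8, 0, 6, 10, 8, 4, 14, 0, 10, 8, 0], 1280⟩, [⟨2, 144, 11, 2048, []⟩]),
  (⟨[0, 2, 3, 4, 6, 7], 1, [[0], [4], [6], [12]], [], [14, 8, 12, 0, 14, 12, 6, 8, 0, 14, 8, 0, 8, 0], [14, 8, 12, 0, 14, 12, 6, 8, 0, 14, 12, 6, 8, 0, 0], 105⟩, [⟨2, 576, 11, 2048, [[3, 2, 0, 3, 2, 3, 0, 2, 0]]⟩, ⟨6, 2, 11, 2048, []⟩]),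
  (⟨[0, 1, 2, 3, 4, 5, 6], 2, [[1, 11, 5, 9, 1, 7, 8, 4, 10, 12, 10, 8, 0], [1, 5, 9, 0, 7, 9, 0, 5, 10, 8, 5, 1]], [], [0, 4, 6, 8, 10, 0, 6, 8, 0, 4, 10, 6, 0, 8, 0], [0, 2, 4, 6, 8, 12, 2, 0, 6, 8, 0, 2, 10, 0], 1024⟩, [⟨151, 180, 11, 2048, []⟩])]
theorem tgc1 : tcOK 11 1792 SG.length (SG.map (nth [] nM)) [] tgs = true := by decide +kernel
theorem tgc2 : (mkTc 11 1792 SG.length (SG.map (nth [] nM)) 1 [] tgs (tgo.map Prod.fst)).run 1365 tgt (bit 1) 0 = true := by decide +kernel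
theorem tgc3 : orbsOK (tabB 11 1792) ((tabB 11 1792).lk tM) SG tgs [(P1, 184320), (P2, 184320), (X3, 120960)] tgo = true := by decide +kernel
theorem tgc4 : allL (inI P1) (tgs.map (rl SG)) = true := by decide +kernel
noncomputable def tss : List (List ℕ) := [[0], [2], [4], [6], [8], [10], [12], [14]]
noncomputable def tst : List (ℕ × ℕ × ℕ) := [(2, 0, 0), (2, 1, 0), (2, 2, 0), (2, 3, 0), (2, 4, 0), (2, 5, 0), (2, 6, 0), (2, 7, 0), (3, 0, 0), (3, 1, 0), (3, 2, 0), (3, 3, 0), (3, 4, 0), (3, 5, 0), (3, 6, 0), (3, 7, 0), (3, 8, 0)]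
noncomputable def tso : List (Orb × List Bk.Lv) := [(⟨[8, 0, 1, 2, 3, 4, 5, 6], 0, [[0], [2], [4], [6]], [], [], [16], 2⟩, [⟨2, 1024, 11, 2048, [[0, 2, 2, 1, 3, 1, 1, 2, 0], [2, 2, 1, 3, 1, 1, 3, 1, 1]]⟩, ⟨151, 180, 11, 2048, []⟩]),
  (⟨[0, 1, 2, 3, 4, 5, 6, 7], 1, [[0], [2], [4], [6]], [], [], [14, 2, 8, 12, 14, 0, 2, 8, 12, 14, 0, 8, 2, 12, 14, 10, 0], 1365⟩, [⟨2, 1024, 11, 2048, [[0, 2, 2, 1, 3, 1, 1, 2, 0], [2, 2, 1, 3, 1, 1, 3, 1, 1]]⟩, ⟨151, 180, 11, 2048, []⟩]),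
  (⟨[8, 0, 1, 2, 3, 4, 5, 6], 17, [[4], [9, 0, 6, 8], [0, 7, 3, 4, 8, 6, 8, 2, 2, 1]], [], [0, 2, 6, 10, 12, 2, 0, 6, 2, 8, 10, 0], [16, 0, 2, 6, 10, 12, 2, 0, 6, 10, 8, 0, 6], 640⟩, [⟨2, 192, 11, 2048, [[1, 2, 1, 1, 0, 2]]⟩, ⟨46, 3, 11, 2048, []⟩]),
  (⟨[8, 9, 0, 2, 3, 4, 5, 7], 0, [[0], [8], [10], [14]], [], [16, 14, 8, 0, 0], [16, 18, 18], 6⟩, [⟨2, 1280, 11, 2048, [[2, 3, 0, 1, 2, 0], [3, 2, 3, 2, 3, 2, 0]]⟩, ⟨17, 144, 11, 2048, []⟩]),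
  (⟨[8, 0, 1, 2, 3, 4, 5, 6], 26, [[4], [0, 6], [3, 10], [0, 13, 16, 12]], [], [0, 2, 6, 2, 12], [16, 2, 0, 2, 12, 6, 2], 20⟩, [⟨2, 768, 11, 2048, [[1, 1, 2, 1, 0], [2, 1, 1, 2, 1, 0, 2], [0, 3, 1, 2, 1, 2, 1, 0, 0]]⟩, ⟨106, 24, 11, 2048, []⟩]),
  (⟨[8, 9, 0, 2, 3, 4, 5, 7], 26, [[4], [17, 6], [0, 16], [17, 11, 8, 10]], [], [16, 10, 14, 0, 8, 16, 0, 4, 10, 8, 0, 16], [16, 18, 10, 18, 0, 14, 16, 18, 4, 10, 8, 18], 240⟩, [⟨2, 768, 11, 2048, [[3, 0, 3], [1, 2, 3, 2, 1]]⟩, ⟨15, 6, 11, 2048, []⟩]),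
  (⟨[8, 9, 0, 2, 3, 4, 6, 7], 0, [[6], [12], [14]], [], [16, 18, 18, 12, 18, 18, 0, 14, 16, 12, 14, 12, 6, 8, 0, 0], [16, 18, 18, 12, 18, 18, 0, 14, 16, 12, 18, 18, 0, 16], 162⟩, [⟨2, 1260, 11, 2048, [[1, 0, 1, 2, 0, 1, 0, 2, 0], [0, 2, 0, 1, 2, 1, 2, 0, 2, 0]]⟩, ⟨7, 96, 11, 2048, []⟩]),
  (⟨[0, 1, 2, 3, 4, 5, 6, 7], 135, [[0, 14], [9, 1, 2, 9, 0, 0, 8, 2, 12]], [], [0, 2, 10, 12, 2, 6, 0, 8, 2, 6, 14, 8, 0, 6], [0, 2, 10, 12, 14, 2, 8, 0, 12, 14, 2, 10, 6, 0], 416⟩, [⟨1, 1050, 11, 2048, [[1], [0, 0]]⟩, ⟨2, 192, 11, 2048, [[1, 0, 0, 1, 0]]⟩, ⟨46, 3, 11, 2048, []⟩]),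
  (⟨[8, 9, 0, 2, 3, 4, 5, 7], 2, [[4, 15, 6, 8], [11, 9, 11, 9, 19, 0, 16, 18, 10, 8, 6, 0]], [], [0, 4, 6, 8, 10, 14, 0, 6, 8, 14, 0, 8, 16, 10, 14, 0, 0], [16, 18, 0, 4, 6, 14, 8, 18, 6, 0, 10, 8, 18, 18], 1536⟩, [⟨17, 720, 11, 2048, []⟩])]
theorem tsc1 : tcOK 11 1792 MS.length (MS.map (nth [] nM)) [] tss = true := by decide +kernel
theorem tsc2 : (mkTc 11 1792 MS.length (MS.map (nth [] nM)) 0 [] tss (tso.map Prod.fst)).run 1782 tst (bit 0) 0 = true := by decide +kernel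
theorem tsc3 : orbsOK (tabB 11 1792) ((tabB 11 1792).lk tM) MS tss [(SG, 251596800), (1 :: P1, 368640), (1 :: 12 :: P2, 1105920), (1 :: 12 :: X3, 19595520)] tso = true := by decide +kernel
theorem tsc4 : allL (inI SG) (tss.map (rl MS)) = true := by decide +kernel

end CA.CoT.S
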